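import Mathlib

/-!
# Elements of order `p` in affine groups of degree `p`
-/

set_option autoImplicit false

namespace Cfsg.Agent.PSqOne

variable {p : ℕ} [Fact p.Prime] {α : Type*}

/-- In coordinates where a group is affine, an element of order dividing `p` is a translation. -/
theorem translation_of_pow_eq_one (g : Equiv.Perm α) (e : ZMod p ≃ α)
    (hg : ∀ i : ZMod p,
      e.symm (g (e i)) = (e.symm (g (e 1)) - e.symm (g (e 0))) * i + e.symm (g (e 0)))
    (hgp : g ^ p = 1) : ∀ i, g (e i) = e (i + e.symm (g (e 0))) := by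
  set m : ZMod p := e.symm (g (e 1)) - e.symm (g (e 0)) with hm
  have hit : ∀ (n : ℕ) (i : ZMod p),
      e.symm ((g ^ n) (e i)) - e.symm ((g ^ n) (e 0)) = m ^ n * i := by
    intro n
    induction n with
    | zero => intro i; simp
    | succ n ih =>
      intro i
      have h1 := hg (e.symm ((g ^ n) (e i)))
      have h2 := hg (e.symm ((g ^ n) (e 0)))
      rw [Equiv.apply_symm_apply] at h1 h2
      rw [pow_succ', Equiv.Perm.mul_apply, Equiv.Perm.mul_apply, h1, h2, pow_succ']
      linear_combination m * ih i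
  have h := hit p 1
  rw [hgp] at h
  simp only [Equiv.Perm.coe_one, id_eq, Equiv.symm_apply_apply, sub_zero, mul_one,
    ZMod.pow_card] at h
  intro i
  apply e.symm.injective
  rw [hg i, ← h, one_mul, Equiv.symm_apply_apply]

/-- In coordinates where a group is affine, its elements of order dividing `p` form one cyclic
group. -/
theorem mem_zpowers_of_affine (G : Subgroup (Equiv.Perm α)) (e : ZMod p ≃ α)
    (haff : ∀ g ∈ G, ∀ i : ZMod p,
      e.symm (g (e i)) = (e.symm (g (e 1)) - e.symm (g (e 0))) * i + e.symm (g (e 0)))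
    {g h : Equiv.Perm α} (hgG : g ∈ G) (hhG : h ∈ G) (hg : g ^ p = 1) (hh : h ^ p = 1)
    (hh1 : h ≠ 1) : g ∈ Subgroup.zpowers h := by
  have h1 := translation_of_pow_eq_one g e (haff g hgG) hg
  have h2 := translation_of_pow_eq_one h e (haff h hhG) hh
  set t := e.symm (g (e 0))
  set s := e.symm (h (e 0))
  have hs : s ≠ 0 := by
    intro hs
    refine hh1 (Equiv.ext fun x => ?_)
    obtain ⟨i, rfl⟩ := e.surjective x
    rw [h2 i, hs, add_zero]; rfl
  have hpow : ∀ (n : ℕ) (i : ZMod p), (h ^ n) (e i) = e (i + n * s) := by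
    intro n
    induction n with
    | zero => intro i; simp
    | succ n ih =>
      intro i
      rw [pow_succ', Equiv.Perm.mul_apply, ih, h2]
      congr 1
      push_cast
      ring
  refine ⟨((t / s).val : ℤ), Equiv.ext fun x => ?_⟩
  obtain ⟨i, rfl⟩ := e.surjective x
  show (h ^ ((t / s).val : ℤ)) (e i) = g (e i)
  rw [zpow_natCast, hpow, ZMod.natCast_zmod_val, div_mul_cancel₀ _ hs, h1]

/-- An affine permutation with two fixed points is trivial. -/
theorem eq_one_of_affine (g : Equiv.Perm α) (e : ZMod p ≃ α)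
    (hg : ∀ i : ZMod p,
      e.symm (g (e i)) = (e.symm (g (e 1)) - e.symm (g (e 0))) * i + e.symm (g (e 0)))
    {x y : α} (hxy : x ≠ y) (hx : g x = x) (hy : g y = y) : g = 1 := by
  obtain ⟨i, rfl⟩ := e.surjective x
  obtain ⟨j, rfl⟩ := e.surjective y
  have h1 := hg i
  have h2 := hg j
  rw [hx, Equiv.symm_apply_apply] at h1
  rw [hy, Equiv.symm_apply_apply] at h2
  have hij : i - j ≠ 0 := sub_ne_zero.mpr fun h => hxy (by rw [h])
  set m : ZMod p := e.symm (g (e 1)) - e.symm (g (e 0))
  set t : ZMod p := e.symm (g (e 0))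
  have hm : m = 1 := by
    refine mul_right_cancel₀ hij ?_
    linear_combination h2 - h1
  refine Equiv.ext fun z => ?_
  obtain ⟨k, rfl⟩ := e.surjective z
  apply e.symm.injective
  rw [hg k, hm, one_mul, Equiv.Perm.one_apply, Equiv.symm_apply_apply]
  rw [hm, one_mul] at h1
  linear_combination (-1 : ZMod p) * h1

end Cfsg.Agent.PSqOne
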