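import Mathlib

/-!
# There is no linear space with `p² + 1` points and all lines of size `p + 1`
-/

set_option autoImplicit false

namespace Cfsg.Agent.PSqOne

theorem no_line_system {Ω : Type*} [Fintype Ω] {p : ℕ} (hp : 2 ≤ p)
    (hΩ : Fintype.card Ω = p ^ 2 + 1) (L : Ω → Ω → Set Ω)
    (hcard : ∀ u v, u ≠ v → (L u v).ncard = p + 1)
    (hmem : ∀ u v, u ≠ v → u ∈ L u v ∧ v ∈ L u v)
    (hcons : ∀ u v, u ≠ v → ∀ c ∈ L u v, ∀ d ∈ L u v, c ≠ d → L c d = L u v) : False := by
  classical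
  let pairs : Finset (Ω × Ω) := (Finset.univ : Finset Ω).offDiag
  let f : Ω × Ω → Finset Ω := fun z => (L z.1 z.2).toFinset
  have hfib : ∀ l ∈ pairs.image f, (pairs.filter fun z => f z = l).card = (p + 1) * p := by
    intro l hl
    obtain ⟨z, hz, rfl⟩ := Finset.mem_image.mp hl
    have hne : z.1 ≠ z.2 := (Finset.mem_offDiag.mp hz).2.2
    have heq : (pairs.filter fun y => f y = f z) = (f z).offDiag := by
      ext y
      simp only [Finset.mem_filter, Finset.mem_offDiag, f, Set.toFinset_inj, Set.mem_toFinset,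
        pairs, Finset.mem_univ, true_and]
      constructor
      · rintro ⟨h, he⟩
        have := hmem _ _ h
        rw [he] at this
        exact ⟨this.1, this.2, h⟩
      · rintro ⟨h1, h2, h3⟩
        exact ⟨h3, hcons _ _ hne _ h1 _ h2 h3⟩
    rw [heq, Finset.offDiag_card, ← Set.ncard_eq_toFinset_card' (L z.1 z.2), hcard _ _ hne,
      show (p + 1) * (p + 1) - (p + 1) = (p + 1) * p from ?_]
    rw [Nat.mul_succ, Nat.add_sub_cancel]
  have hsum : pairs.card = (pairs.image f).card * ((p + 1) * p) := by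
    rw [Finset.card_eq_sum_card_image f pairs, Finset.sum_congr rfl hfib, Finset.sum_const,
      smul_eq_mul]
  have hpc : pairs.card = (p ^ 2 + 1) * p ^ 2 := by
    simp only [pairs, Finset.offDiag_card, Finset.card_univ, hΩ]
    rw [Nat.mul_succ, Nat.add_sub_cancel]
  rw [hpc] at hsum
  have hz : ((p : ℤ) ^ 2 + 1) * p = ((pairs.image f).card : ℤ) * (p + 1) := by
    have h0 : ((p : ℤ) ^ 2 + 1) * p ^ 2 = ((pairs.image f).card : ℤ) * ((p + 1) * p) := by
      exact_mod_cast hsum
    have hp0 : (p : ℤ) ≠ 0 := by exact_mod_cast (show p ≠ 0 by omega)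
    apply mul_right_cancel₀ hp0
    linear_combination h0
  have hdvd : ((p : ℤ) + 1) ∣ 2 :=
    ⟨-((pairs.image f).card : ℤ) + (p : ℤ) ^ 2 - p + 2, by linear_combination (-1 : ℤ) * hz⟩
  have := Int.le_of_dvd (by norm_num) hdvd
  omega

end Cfsg.Agent.PSqOne
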