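import Mathlib
import Cfsg.Agent.Lib.Perm.PSqOne.Lines

/-!
# Invariant families of blocks for the point stabilisers
-/

set_option autoImplicit false

open MulAction

namespace Cfsg.Agent.PSqOne

/-- For each point a partition of the other points in parts of size `p`, all in an invariant way. -/
structure BlockSys (G Ω : Type*) [Group G] [MulAction G Ω] (p : ℕ) where
  /-- The part of the second point for the first one. -/
  blk : Ω → Ω → Set Ω
  mem : ∀ u v : Ω, u ≠ v → v ∈ blk u v
  notMem : ∀ u v : Ω, u ≠ v → u ∉ blk u v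
  ncard : ∀ u v : Ω, u ≠ v → (blk u v).ncard = p
  eq_of_mem : ∀ u v w : Ω, u ≠ v → w ∈ blk u v → blk u w = blk u v
  smul_mem : ∀ (g : G) (u v w : Ω), u ≠ v → (g • w ∈ blk (g • u) (g • v) ↔ w ∈ blk u v)

variable {G Ω : Type*} [Group G] [MulAction G Ω] {p : ℕ}

namespace BlockSys

variable (S : BlockSys G Ω p)

theorem ne_of_mem {u v w : Ω} (huv : u ≠ v) (hw : w ∈ S.blk u v) : u ≠ w :=
  fun h => S.notMem u v huv (h ▸ hw)

theorem symm {u v w : Ω} (huv : u ≠ v) (hw : w ∈ S.blk u v) : v ∈ S.blk u w := by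
  rw [S.eq_of_mem u v w huv hw]; exact S.mem u v huv

theorem image_blk (g : G) {u v : Ω} (huv : u ≠ v) :
    (fun w => g • w) '' S.blk u v = S.blk (g • u) (g • v) := by
  ext w
  constructor
  · rintro ⟨z, hz, rfl⟩; exact (S.smul_mem g u v z huv).mpr hz
  · intro hw
    refine ⟨g⁻¹ • w, ?_, smul_inv_smul g w⟩
    rw [← S.smul_mem g u v _ huv, smul_inv_smul]
    exact hw

/-- An element of `p`-power order fixing two points fixes the part of the one seen from the
other. -/
theorem fix_of_pow [Finite Ω] [Fact p.Prime] {g : G} {k : ℕ} (hg : g ^ p ^ k = 1) {u v : Ω}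
    (huv : u ≠ v) (hu : g • u = u) (hv : g • v = v) {w : Ω} (hw : w ∈ S.blk u v) : g • w = w := by
  have hp : p.Prime := Fact.out
  by_cases hwv : w = v
  · rw [hwv, hv]
  have hdvd : Function.minimalPeriod (g • ·) w ∣ p ^ k := by
    rw [← pow_smul_eq_iff_minimalPeriod_dvd, hg, one_smul]
  obtain ⟨i, -, hi⟩ := (Nat.dvd_prime_pow hp).mp hdvd
  rcases Nat.eq_zero_or_pos i with rfl | hipos
  · rw [pow_zero] at hi
    exact Function.minimalPeriod_eq_one_iff_isFixedPt.mp hi
  · exfalso
    let Z : Subgroup G := Subgroup.zpowers g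
    have hsub : orbit Z w ⊆ S.blk u v \ {v} := by
      rintro z ⟨⟨x, n, rfl⟩, rfl⟩
      have hnu : g ^ n • u = u := by
        rw [← mem_stabilizer_iff]; exact Subgroup.zpow_mem _ (mem_stabilizer_iff.mpr hu) n
      have hnv : g ^ n • v = v := by
        rw [← mem_stabilizer_iff]; exact Subgroup.zpow_mem _ (mem_stabilizer_iff.mpr hv) n
      refine ⟨?_, fun h => hwv ?_⟩
      · have := (S.smul_mem (g ^ n) u v w huv).mpr hw
        rwa [hnu, hnv] at this
      · have h' : g ^ n • w = v := h
        exact smul_left_cancel _ (h'.trans hnv.symm)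
    have h1 := Set.ncard_le_ncard hsub
    rw [Set.ncard_sdiff (Set.singleton_subset_iff.mpr (S.mem u v huv)), Set.ncard_singleton,
      S.ncard u v huv, ← Nat.card_coe_set_eq] at h1
    haveI : Fintype (orbit Z w) := Fintype.ofFinite _
    rw [Nat.card_eq_fintype_card, ← minimalPeriod_eq_card, hi] at h1
    have : p ≤ p ^ i := Nat.le_self_pow hipos.ne' p
    have := hp.two_le
    omega

/-- The structure is not symmetric. -/
theorem exists_asymm [Fintype Ω] (hp : 2 ≤ p) (hΩ : Fintype.card Ω = p ^ 2 + 1)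
    (h2 : IsMultiplyPretransitive G Ω 2) :
    ∀ u v : Ω, u ≠ v → ∃ w ∈ S.blk v u, w ≠ u ∧ w ∉ S.blk u v := by
  classical
  intro u v huv
  by_contra hne
  push Not at hne
  have h2' : ∀ {c d e f : Ω}, c ≠ d → e ≠ f → ∃ g : G, g • c = e ∧ g • d = f :=
    is_two_pretransitive_iff.mp h2
  have hall : ∀ c d, c ≠ d → ∀ w ∈ S.blk d c, w ≠ c → w ∈ S.blk c d := by
    intro c d hcd w hw hwc
    obtain ⟨g, hgu, hgv⟩ := h2' huv hcd
    have e1 := S.smul_mem g v u (g⁻¹ • w) huv.symm
    have e2 := S.smul_mem g u v (g⁻¹ • w) huv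
    rw [hgu, hgv, smul_inv_smul] at e1 e2
    exact e2.mpr (hne _ (e1.mp hw) fun h => hwc (by rw [← hgu, ← h, smul_inv_smul]))
  let L : Ω → Ω → Set Ω := fun c d => insert c (S.blk c d)
  have hsymm : ∀ c d, c ≠ d → L c d = L d c := by
    intro c d hcd
    refine Set.Subset.antisymm ?_ ?_
    · intro w hw
      rcases hw with rfl | hw
      · exact Or.inr (S.mem d w hcd.symm)
      · by_cases hwd : w = d
        · exact Or.inl hwd
        · exact Or.inr (hall d c hcd.symm w hw hwd)
    · intro w hw
      rcases hw with rfl | hw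
      · exact Or.inr (S.mem c w hcd)
      · by_cases hwc : w = c
        · exact Or.inl hwc
        · exact Or.inr (hall c d hcd w hw hwc)
  have hfirst : ∀ c d e, c ≠ d → e ∈ S.blk c d → L c e = L c d := fun c d e hcd he => by
    show insert c (S.blk c e) = insert c (S.blk c d)
    rw [S.eq_of_mem c d e hcd he]
  refine no_line_system hp hΩ L ?_ ?_ ?_
  · intro c d hcd
    rw [Set.ncard_insert_of_notMem (S.notMem c d hcd), S.ncard c d hcd]
  · intro c d hcd
    exact ⟨Or.inl rfl, Or.inr (S.mem c d hcd)⟩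
  · intro c d hcd e he f hf hef
    rcases he with rfl | he
    · rcases hf with rfl | hf
      · exact absurd rfl hef
      · exact hfirst _ d f hcd hf
    · rcases hf with rfl | hf
      · rw [hsymm e f hef]
        exact hfirst f d e hcd he
      · have hce : c ≠ e := S.ne_of_mem hcd he
        have h1 : L e c = L c d := by rw [hsymm e c hce.symm, hfirst c d e hcd he]
        have hfe : f ∈ S.blk e c := by
          have : f ∈ L e c := by rw [h1]; exact Or.inr hf
          rcases this with h | h
          · exact absurd h.symm hef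
          · exact h
        rw [hfirst e c f hce.symm hfe, h1]

end BlockSys

end Cfsg.Agent.PSqOne
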