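import Mathlib

/-!
# No doubly transitive group of even permutations of degree `p² + 1` with a regular normal
abelian subgroup in the point stabiliser leaving a subgroup of order `p` invariant

Count involutions.
-/

set_option autoImplicit false

open MulAction

namespace Cfsg.Agent.PSqOne

variable {G Ω : Type*} [Group G] [Finite G] [Fintype Ω] [MulAction G Ω] [FaithfulSMul G Ω]

variable {p : ℕ} [Fact p.Prime]

/-- The elements of `P` commuting with `l`, as a subgroup. -/
def fixIn (P : Subgroup G) (l : G) : Subgroup G := P ⊓ Subgroup.centralizer {l}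

theorem mem_fixIn {P : Subgroup G} {l h : G} : h ∈ fixIn P l ↔ h ∈ P ∧ l * h = h * l := by
  rw [fixIn, Subgroup.mem_inf, Subgroup.mem_centralizer_singleton_iff]
  exact and_congr_right fun _ => eq_comm

/-- The fixed points of an element fixing `a` and `b`, when `P` is regular on the other points. -/
theorem card_fixed (P : Subgroup G) (a b : Ω)
    (hPa : ∀ h ∈ P, h • a = a) (hfree : ∀ h ∈ P, h • b = b → h = 1)
    (htr : ∀ v, v ≠ a → ∃ h ∈ P, h • b = v) (hab : a ≠ b) (l : G)
    (hla : l • a = a) (hlb : l • b = b) (hl : ∀ h ∈ P, l * h * l⁻¹ ∈ P) :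
    Nat.card {v : Ω // l • v = v} = Nat.card (fixIn P l) + 1 := by
  classical
  have hiff : ∀ h ∈ P, (l • h • b = h • b ↔ l * h = h * l) := by
    intro h hh
    constructor
    · intro he
      have h1 : (h⁻¹ * (l * h * l⁻¹)) • b = b := by
        rw [mul_smul, mul_smul, mul_smul, inv_smul_eq_iff.mpr hlb.symm, he, inv_smul_smul]
      have h2 := hfree _ (P.mul_mem (P.inv_mem hh) (hl h hh)) h1
      rw [inv_mul_eq_one] at h2
      conv_rhs => rw [h2]
      group
    · intro he
      rw [← mul_smul, he, mul_smul, hlb]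
  have hset : {v : Ω | l • v = v} = insert a ((fun h : G => h • b) '' (fixIn P l : Set G)) := by
    ext v
    simp only [Set.mem_setOf_eq, Set.mem_insert_iff, Set.mem_image, SetLike.mem_coe, mem_fixIn]
    constructor
    · intro hv
      by_cases hva : v = a
      · exact Or.inl hva
      · obtain ⟨h, hh, rfl⟩ := htr v hva
        exact Or.inr ⟨h, ⟨hh, (hiff h hh).mp hv⟩, rfl⟩
    · rintro (rfl | ⟨h, ⟨hh, hc⟩, rfl⟩)
      · exact hla
      · exact (hiff h hh).mpr hc
  have hinj : Set.InjOn (fun h : G => h • b) (fixIn P l : Set G) := by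
    intro x hx y hy he
    have h1 : (y⁻¹ * x) • b = b := by
      rw [mul_smul, show x • b = y • b from he, inv_smul_smul]
    exact (inv_mul_eq_one.mp (hfree _ (P.mul_mem (P.inv_mem (mem_fixIn.mp hy).1)
      (mem_fixIn.mp hx).1) h1)).symm
  have hna : a ∉ (fun h : G => h • b) '' (fixIn P l : Set G) := by
    rintro ⟨h, hh, he⟩
    have hhP : h ∈ P := (mem_fixIn.mp hh).1
    have : b = a := (smul_left_cancel_iff h).mp (he.trans (hPa h hhP).symm)
    exact hab this.symm
  show Nat.card ({v : Ω | l • v = v} : Set Ω) = _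
  rw [Nat.card_coe_set_eq, hset, Set.ncard_insert_of_notMem hna, hinj.ncard_image,
    ← Nat.card_coe_set_eq]
  rfl

/-- An element of order prime to `p` centralising `P₀` and `P/P₀` centralises `P`. -/
theorem central_of_stable (P P₀ : Subgroup G) (hP₀c : Nat.card P₀ = p) (l : G)
    (hl : ¬ p ∣ orderOf l) (hc : ∀ h ∈ P₀, l * h = h * l)
    (hq : ∀ h ∈ P, l * h * l⁻¹ * h⁻¹ ∈ P₀) : ∀ h ∈ P, l * h = h * l := by
  intro h hh
  set c := l * h * l⁻¹ * h⁻¹ with hcdef
  have hcl : l * c = c * l := hc c (hq h hh)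
  have key : ∀ n : ℕ, l ^ n * h * (l ^ n)⁻¹ = c ^ n * h := by
    intro n
    induction n with
    | zero => simp
    | succ n ih =>
      have hcn : l * c ^ n * l⁻¹ = c ^ n := by
        rw [((Commute.pow_right (show Commute l c from hcl) n)).eq, mul_inv_cancel_right]
      calc l ^ (n + 1) * h * (l ^ (n + 1))⁻¹
          = l * (l ^ n * h * (l ^ n)⁻¹) * l⁻¹ := by rw [pow_succ']; group
        _ = (l * c ^ n * l⁻¹) * (l * h * l⁻¹) := by rw [ih]; group
        _ = c ^ n * (c * h) := by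
          rw [hcn, show c * h = l * h * l⁻¹ by rw [hcdef, inv_mul_cancel_right]]
        _ = c ^ (n + 1) * h := by rw [pow_succ]; exact (mul_assoc _ _ _).symm
  have h1 := key (orderOf l)
  rw [pow_orderOf_eq_one, one_mul, inv_one, mul_one] at h1
  have h2 : c ^ orderOf l = 1 := by
    calc c ^ orderOf l = (c ^ orderOf l * h) * h⁻¹ := by group
      _ = h * h⁻¹ := by rw [← h1]
      _ = 1 := mul_inv_cancel h
  have hc1 : c = 1 := by
    have hd : orderOf (⟨c, hq h hh⟩ : P₀) ∣ p := hP₀c ▸ orderOf_dvd_natCard _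
    rw [Subgroup.orderOf_mk] at hd
    rcases (Nat.dvd_prime (Fact.out : p.Prime)).mp hd with ho | ho
    · exact orderOf_eq_one_iff.mp ho
    · exact absurd (ho ▸ orderOf_dvd_of_pow_eq_one h2) hl
  calc l * h = c * h * l := by rw [hcdef]; group
    _ = h * l := by rw [hc1, one_mul]

theorem inj_count {α β : Type*} [Finite β] (f : α → β) (hf : Function.Injective f) {n : ℕ}
    (hn : Nat.card β ≤ n) : Nat.card α ≤ n := (Nat.card_le_card_of_injective f hf).trans hn

/-- The involution count. -/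
theorem false_of_regular (hp2 : p ≠ 2) (hΩ : Fintype.card Ω = p ^ 2 + 1)
    (h2 : IsMultiplyPretransitive G Ω 2) [DecidableEq Ω]
    (heven : ∀ g : G, Equiv.Perm.sign (MulAction.toPerm g : Equiv.Perm Ω) = 1)
    (a b : Ω) (hab : a ≠ b) (P P₀ : Subgroup G) (hP : Nat.card P = p ^ 2)
    (hPa : ∀ h ∈ P, h • a = a) (hPab : ∀ x ∈ P, ∀ y ∈ P, x * y = y * x)
    (hPn : ∀ g : G, g • a = a → ∀ h ∈ P, g * h * g⁻¹ ∈ P)
    (htr : ∀ v, v ≠ a → ∃ h ∈ P, h • b = v)
    (hP₀ : P₀ ≤ P) (hP₀c : Nat.card P₀ = p)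
    (hP₀n : ∀ g : G, g • a = a → ∀ h ∈ P₀, g * h * g⁻¹ ∈ P₀)
    (hL : ¬ p ∣ Nat.card (stabilizer G a ⊓ stabilizer G b : Subgroup G)) : False := by
  classical
  haveI := Fintype.ofFinite G
  have hp : p.Prime := Fact.out
  have hp3 : 3 ≤ p := by have := hp.two_le; omega
  have hpodd : Odd p := hp.odd_of_ne_two hp2
  have h2' : ∀ {u v c d : Ω}, u ≠ v → c ≠ d → ∃ g : G, g • u = c ∧ g • v = d :=
    is_two_pretransitive_iff.mp h2
  set L : Subgroup G := stabilizer G a ⊓ stabilizer G b with hLdef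
  have hLmem : ∀ {l : G}, l ∈ L ↔ l • a = a ∧ l • b = b := fun {l} => by
    rw [hLdef, Subgroup.mem_inf, mem_stabilizer_iff, mem_stabilizer_iff]
  -- regularity
  have hfree : ∀ h ∈ P, h • b = b → h = 1 := by
    have hsur : Function.Surjective (fun h : P =>
        (⟨(h : G) • b, fun he => hab (by
          have := (smul_left_cancel_iff (h : G)).mp (he.trans (hPa h h.2).symm)
          exact this.symm)⟩ : {v : Ω // v ≠ a})) := by
      intro v
      obtain ⟨h, hh, he⟩ := htr v v.2
      exact ⟨⟨h, hh⟩, Subtype.ext he⟩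
    have hc : Nat.card {v : Ω // v ≠ a} = Nat.card P := by
      rw [hP, Nat.card_eq_fintype_card, Fintype.card_subtype_compl, Fintype.card_subtype_eq, hΩ,
        Nat.add_sub_cancel]
    have hbij : Function.Bijective _ :=
      (Nat.bijective_iff_surjective_and_card _).mpr ⟨hsur, hc.symm⟩
    intro h hh he
    have := hbij.1 (a₁ := ⟨h, hh⟩) (a₂ := 1) (Subtype.ext (by simpa using he))
    exact congrArg Subtype.val this
  have hcentP : ∀ l ∈ L, (∀ h ∈ P, l * h = h * l) → l = 1 := by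
    intro l hl hc
    refine eq_of_smul_eq_smul (α := Ω) fun v => ?_
    rw [one_smul]
    by_cases hv : v = a
    · rw [hv]; exact (hLmem.mp hl).1
    · obtain ⟨h, hh, rfl⟩ := htr v hv
      rw [← mul_smul, hc h hh, mul_smul, (hLmem.mp hl).2]
  have hstable : ∀ l ∈ L, (∀ h ∈ P₀, l * h = h * l) →
      (∀ h ∈ P, l * h * l⁻¹ * h⁻¹ ∈ P₀) → l = 1 := fun l hl hc hq =>
    hcentP l hl (central_of_stable P P₀ hP₀c l
      (fun hd => hL (hd.trans (Subgroup.orderOf_dvd_natCard L hl))) hc hq)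
  have hPn' : ∀ l ∈ L, ∀ h ∈ P, l * h * l⁻¹ ∈ P := fun l hl => hPn l (hLmem.mp hl).1
  have hP₀n' : ∀ l ∈ L, ∀ h ∈ P₀, l * h * l⁻¹ ∈ P₀ := fun l hl => hP₀n l (hLmem.mp hl).1
  -- automorphisms of the factors
  have hcyc : IsCyclic P₀ := isCyclic_of_prime_card hP₀c
  have hgen : ∀ h ∈ P₀, h ≠ 1 → ∀ l ∈ L, l * h = h * l → ∀ y ∈ P₀, l * y = y * l := by
    intro h hh h1 l _ hc y hy
    obtain ⟨n, hn⟩ := mem_powers_of_prime_card hP₀c (g := (⟨h, hh⟩ : P₀)) (g' := ⟨y, hy⟩)
      (fun he => h1 (congrArg Subtype.val he))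
    have hyn : h ^ n = y := congrArg Subtype.val hn
    rw [← hyn]
    exact (Commute.pow_right (show Commute l h from hc) n).eq
  have hconjmul : ∀ (l x y : G), l * (x * y) * l⁻¹ = (l * x * l⁻¹) * (l * y * l⁻¹) := by
    intro l x y; group
  -- involutions of `L`
  have hinv : ∀ l ∈ L, l * l = 1 → ∀ h : G, l * (l * h * l⁻¹) * l⁻¹ = h := by
    intro l _ h2 h
    have : l⁻¹ = l := inv_eq_of_mul_eq_one_right h2
    rw [this, show l * (l * h * l) * l = (l * l) * h * (l * l) by group, h2, one_mul, mul_one]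
  have hcardfix : ∀ l ∈ L, l * l = 1 → l ≠ 1 →
      Nat.card (fixIn P l) = 1 ∨ Nat.card (fixIn P l) = p := by
    intro l hl h2 h1
    obtain ⟨k, hk, hck⟩ := (Nat.dvd_prime_pow hp).mp
      (hP ▸ Subgroup.card_dvd_of_le (show fixIn P l ≤ P from inf_le_left))
    interval_cases k
    · left; simpa using hck
    · right; simpa using hck
    · exfalso
      refine h1 (hcentP l hl fun h hh => (mem_fixIn (P := P).mp ?_).2)
      rw [show fixIn P l = P from Subgroup.eq_of_le_of_card_ge inf_le_left (by rw [hck, hP])]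
      exact hh
  have hfix1 : ∀ l ∈ L, l * l = 1 → Nat.card (fixIn P l) = 1 →
      ∀ h ∈ P, l * h * l⁻¹ = h⁻¹ := by
    intro l hl h2 hc h hh
    have hm : h * (l * h * l⁻¹) ∈ fixIn P l := by
      refine mem_fixIn.mpr ⟨P.mul_mem hh (hPn' l hl h hh), ?_⟩
      rw [← mul_inv_eq_iff_eq_mul, hconjmul, hinv l hl h2 h]
      exact hPab _ (hPn' l hl h hh) _ hh
    rw [Subgroup.eq_bot_of_card_eq _ hc, Subgroup.mem_bot] at hm
    exact eq_inv_of_mul_eq_one_right hm
  have hone : ∀ l ∈ L, ∀ m ∈ L, l * l = 1 → m * m = 1 →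
      Nat.card (fixIn P l) = 1 → Nat.card (fixIn P m) = 1 → l = m := by
    intro l hl m hm hl2 hm2 hlc hmc
    rw [← inv_mul_eq_one]
    refine hcentP _ (L.mul_mem (L.inv_mem hl) hm) fun h hh => ?_
    have e1 := hfix1 m hm hm2 hmc h hh
    have e2 := hfix1 l hl hl2 hlc h hh
    have e3 : l⁻¹ * h⁻¹ * l = h := by
      rw [← e2]; group
    rw [← mul_inv_eq_iff_eq_mul, show l⁻¹ * m * h * (l⁻¹ * m)⁻¹ = l⁻¹ * (m * h * m⁻¹) * l by group,
      e1, e3]
  -- the two kinds of reflections
  set R : Set G := {l | l ∈ L ∧ l * l = 1 ∧ l ≠ 1 ∧ Nat.card (fixIn P l) = p} with hR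
  have hkindA : ∀ l ∈ R, (∀ h ∈ P₀, l * h = h * l) → ∀ h ∈ P, (l * h * l⁻¹) * h ∈ P₀ := by
    rintro l ⟨hl, hl2, -, hc⟩ hc0 h hh
    have hfixeq : P₀ = fixIn P l :=
      Subgroup.eq_of_le_of_card_ge (fun x hx => mem_fixIn.mpr ⟨hP₀ hx, hc0 x hx⟩)
        (by rw [hP₀c, hc])
    rw [hfixeq, mem_fixIn]
    refine ⟨P.mul_mem (hPn' l hl h hh) hh, ?_⟩
    rw [← mul_inv_eq_iff_eq_mul, hconjmul, hinv l hl hl2 h]
    exact hPab _ hh _ (hPn' l hl h hh)
  have hkindB : ∀ l ∈ R, ¬ (∀ h ∈ P₀, l * h = h * l) →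
      (∀ h ∈ P₀, l * h * l⁻¹ = h⁻¹) ∧ (∀ h ∈ P, (l * h * l⁻¹) * h⁻¹ ∈ P₀) := by
    rintro l ⟨hl, hl2, -, hc⟩ hc0
    have hmeet : ∀ x ∈ P₀, l * x = x * l → x = 1 := by
      intro x hx hxl
      by_contra hx1
      exact hc0 (hgen x hx hx1 l hl hxl)
    refine ⟨fun h hh => ?_, fun h hh => ?_⟩
    · refine eq_inv_of_mul_eq_one_right (hmeet _ (P₀.mul_mem hh (hP₀n' l hl h hh)) ?_)
      rw [← mul_inv_eq_iff_eq_mul, hconjmul, hinv l hl hl2 h]
      exact hPab _ (hPn' l hl h (hP₀ hh)) _ (hP₀ hh)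
    · -- every element is a fixed element times an element of `P₀`
      have hdisj : Disjoint (fixIn P l) P₀ := by
        rw [Subgroup.disjoint_def]
        exact fun hx hx0 => hmeet _ hx0 (mem_fixIn.mp hx).2
      have hinj := Subgroup.mul_injective_of_disjoint hdisj
      let f : fixIn P l × P₀ → P :=
        fun z => ⟨z.1 * z.2, P.mul_mem (mem_fixIn.mp z.1.2).1 (hP₀ z.2.2)⟩
      have hf : Function.Bijective f := (Nat.bijective_iff_injective_and_card f).mpr
        ⟨fun x y he => hinj (congrArg Subtype.val he), by rw [Nat.card_prod, hc, hP₀c, hP, sq]⟩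
      obtain ⟨⟨u, v⟩, huv⟩ := hf.2 ⟨h, hh⟩
      have huv' : (u : G) * v = h := congrArg Subtype.val huv
      rw [← huv', hconjmul, show l * (u : G) * l⁻¹ = u by
        rw [(mem_fixIn.mp u.2).2, mul_inv_cancel_right]]
      have hcomm := hPab _ (mem_fixIn.mp u.2).1 _ (hP₀ v.2)
      have hv' : (u : G) * (l * v * l⁻¹) * ((u : G) * v)⁻¹ = (l * v * l⁻¹) * (v : G)⁻¹ := by
        rw [hPab _ (mem_fixIn.mp u.2).1 _ (hPn' l hl _ (hP₀ v.2)), mul_inv_rev,
          hPab _ (P.inv_mem (hP₀ v.2)) _ (P.inv_mem (mem_fixIn.mp u.2).1)]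
        group
      rw [hv']
      exact P₀.mul_mem (hP₀n' l hl _ v.2) (P₀.inv_mem v.2)
  have hRle : Nat.card R ≤ 2 := by
    refine inj_count (fun l : R => decide (∀ h ∈ P₀, (l : G) * h = h * l)) ?_ (by simp)
    intro x y he
    simp only [decide_eq_decide] at he
    apply Subtype.ext
    obtain ⟨hx, hx2, -, -⟩ := x.2
    obtain ⟨hy, hy2, -, -⟩ := y.2
    rw [← inv_mul_eq_one]
    have hxi : (x : G)⁻¹ = x := inv_eq_of_mul_eq_one_right hx2
    have hyi : (y : G)⁻¹ = y := inv_eq_of_mul_eq_one_right hy2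
    rw [hxi]
    refine hstable _ (L.mul_mem hx hy) (fun h hh => ?_) (fun h hh => ?_)
    · by_cases hA : ∀ h ∈ P₀, (x : G) * h = h * x
      · rw [mul_assoc, (he.mp hA) h hh, ← mul_assoc, hA h hh, mul_assoc]
      · have e1 := (hkindB x x.2 hA).1
        have e2 := (hkindB y y.2 (fun hh' => hA (he.mpr hh'))).1
        rw [← mul_inv_eq_iff_eq_mul,
          show (x : G) * y * h * (x * y : G)⁻¹ = x * (y * h * (y : G)⁻¹) * (x : G)⁻¹ by group,
          e2 h hh, e1 _ (P₀.inv_mem hh), inv_inv]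
    · by_cases hA : ∀ h ∈ P₀, (x : G) * h = h * x
      · have e1 := hkindA x x.2 hA ((y : G) * h * (y : G)⁻¹) (hPn' y hy h hh)
        have e2 := hkindA y y.2 (he.mp hA) h hh
        have := P₀.mul_mem e1 (P₀.inv_mem e2)
        rw [hPab _ (hPn' y hy h hh) _ hh] at this
        convert this using 1
        group
      · have e1 := (hkindB x x.2 hA).2 ((y : G) * h * (y : G)⁻¹) (hPn' y hy h hh)
        have e2 := (hkindB y y.2 (fun hh' => hA (he.mpr hh'))).2 h hh
        have := P₀.mul_mem e1 e2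
        convert this using 1
        group
  -- fixed points of involutions
  let fx : G → ℕ := fun s => Nat.card {v : Ω // s • v = v}
  have hfxconj : ∀ (g s : G), fx (g * s * g⁻¹) = fx s := by
    intro g s
    refine (Nat.card_congr (Equiv.subtypeEquiv (MulAction.toPerm g) fun v => ?_)).symm
    simp [mul_smul]
  have hfxL : ∀ l ∈ L, fx l = Nat.card (fixIn P l) + 1 := fun l hl =>
    card_fixed P a b hPa hfree htr hab l (hLmem.mp hl).1 (hLmem.mp hl).2 (hPn' l hl)
  have hmove : ∀ s : G, s * s = 1 → Even ((p ^ 2 + 1 - fx s) / 2) := by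
    intro s hs
    have h := Equiv.Perm.sign_of_pow_two_eq_one (σ := (MulAction.toPerm s : Equiv.Perm Ω))
      (by ext v; simp [sq, ← mul_smul, hs])
    rw [heven s, hΩ] at h
    have he : Fintype.card (Function.fixedPoints (MulAction.toPerm s : Equiv.Perm Ω)) = fx s := by
      rw [← Nat.card_eq_fintype_card]; rfl
    rw [he] at h
    by_contra hne
    rw [(Nat.not_even_iff_odd.mp hne).neg_one_pow] at h
    exact absurd h (by decide)
  have hfixpt : ∀ s : G, s * s = 1 → ∃ v : Ω, s • v = v := by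
    intro s hs
    by_contra hne
    push Not at hne
    have h0 : fx s = 0 := by
      haveI : IsEmpty {v : Ω // s • v = v} := ⟨fun v => hne v v.2⟩
      exact Nat.card_of_isEmpty
    have := hmove s hs
    rw [h0, Nat.sub_zero] at this
    obtain ⟨r, hr⟩ := hpodd
    have h3 : (p ^ 2 + 1) / 2 = 2 * (r ^ 2 + r) + 1 := by
      subst hr
      have : (2 * r + 1) ^ 2 + 1 = (2 * (r ^ 2 + r) + 1) * 2 := by ring
      rw [this, Nat.mul_div_cancel _ (by norm_num)]
    rw [h3] at this
    exact absurd this (by simp [parity_simps])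
  have hfix2 : ∀ s : G, s * s = 1 → ∀ u : Ω, s • u = u → ∃ v, v ≠ u ∧ s • v = v := by
    intro s hs u hu
    by_contra hne
    push Not at hne
    have h1 : fx s = 1 := by
      rw [Nat.card_eq_one_iff_unique]
      exact ⟨⟨fun x y => Subtype.ext (by
        have hx : (x : Ω) = u := by by_contra h; exact hne x h x.2
        have hy : (y : Ω) = u := by by_contra h; exact hne y h y.2
        rw [hx, hy])⟩, ⟨⟨u, hu⟩⟩⟩
    have hmod := Equiv.Perm.card_fixedPoints_modEq (α := Ω) (p := 2) (n := 1)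
      (f := (s • ·)) (by rw [pow_one]; funext v; show s • s • v = v; rw [← mul_smul, hs, one_smul])
    have he : Fintype.card (Function.fixedPoints (s • · : Ω → Ω)) = fx s := by
      rw [← Nat.card_eq_fintype_card]; rfl
    rw [hΩ, he, h1] at hmod
    unfold Nat.ModEq at hmod
    obtain ⟨r, hr⟩ := hpodd.pow (n := 2)
    omega
  have hfx : ∀ s : G, s * s = 1 → s ≠ 1 → fx s = 2 ∨ fx s = p + 1 := by
    intro s hs hs1
    obtain ⟨u, hu⟩ := hfixpt s hs
    obtain ⟨v, hvu, hv⟩ := hfix2 s hs u hu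
    obtain ⟨g, hga, hgb⟩ := h2' hvu.symm hab
    have hl : g * s * g⁻¹ ∈ L := hLmem.mpr
      ⟨by rw [← hga]; simp [mul_smul, hu], by rw [← hgb]; simp [mul_smul, hv]⟩
    have hl2 : g * s * g⁻¹ * (g * s * g⁻¹) = 1 := by
      rw [show g * s * g⁻¹ * (g * s * g⁻¹) = g * (s * s) * g⁻¹ by group, hs]; group
    have hl1 : g * s * g⁻¹ ≠ 1 := fun he => hs1 (conj_eq_one_iff.mp he)
    rw [← hfxconj g s, hfxL _ hl]
    rcases hcardfix _ hl hl2 hl1 with h | h <;> rw [h]
    · exact Or.inl rfl
    · exact Or.inr rfl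
  -- double counting
  have hcount : ∀ k : ℕ,
      Nat.card {s : G // s * s = 1 ∧ s ≠ 1 ∧ fx s = k} * (k * k - k) =
        Nat.card {s : G // s ∈ L ∧ s * s = 1 ∧ s ≠ 1 ∧ fx s = k} * ((p ^ 2 + 1) * p ^ 2) := by
    intro k
    let S : Finset G := Finset.univ.filter fun s => s * s = 1 ∧ s ≠ 1 ∧ fx s = k
    let pr : Finset (Ω × Ω) := (Finset.univ : Finset Ω).offDiag
    let rel : G → Ω × Ω → Prop := fun s z => s • z.1 = z.1 ∧ s • z.2 = z.2
    have h1 : ∀ s ∈ S, (pr.filter fun z => rel s z).card = k * k - k := by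
      intro s hs
      have : (pr.filter fun z => rel s z) = (Finset.univ.filter fun v : Ω => s • v = v).offDiag := by
        ext z; simp [pr, rel]; tauto
      rw [this, Finset.offDiag_card, ← (Finset.mem_filter.mp hs).2.2.2]
      simp only [fx, Nat.card_eq_fintype_card, Fintype.card_subtype]
    have h2c : ∀ z ∈ pr, (S.filter fun s => rel s z).card =
        Nat.card {s : G // s ∈ L ∧ s * s = 1 ∧ s ≠ 1 ∧ fx s = k} := by
      intro z hz
      obtain ⟨g, hga, hgb⟩ := h2' (Finset.mem_offDiag.mp hz).2.2 hab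
      rw [Nat.card_eq_fintype_card, Fintype.card_subtype]
      refine Finset.card_equiv (MulAut.conj g).toEquiv fun s => ?_
      simp only [S, rel, Finset.mem_filter, Finset.mem_univ, true_and, MulEquiv.toEquiv_eq_coe,
        MulEquiv.coe_toEquiv, MulAut.conj_apply, hLmem, hfxconj]
      rw [← hga, ← hgb]
      simp only [mul_smul, inv_smul_smul, smul_left_cancel_iff, ne_eq, conj_eq_one_iff]
      have hsq : g * s * g⁻¹ * (g * s * g⁻¹) = 1 ↔ s * s = 1 := by
        rw [show g * s * g⁻¹ * (g * s * g⁻¹) = g * (s * s) * g⁻¹ by group, conj_eq_one_iff]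
      rw [hsq]; tauto
    have h := Finset.sum_card_bipartiteAbove_eq_sum_card_bipartiteBelow (s := S) (t := pr) rel
    simp only [Finset.bipartiteAbove, Finset.bipartiteBelow] at h
    rw [Finset.sum_congr rfl h1, Finset.sum_congr rfl h2c, Finset.sum_const, Finset.sum_const,
      smul_eq_mul, smul_eq_mul] at h
    have hS : Nat.card {s : G // s * s = 1 ∧ s ≠ 1 ∧ fx s = k} = S.card := by
      rw [Nat.card_eq_fintype_card, Fintype.card_subtype]
    have hpr : pr.card = (p ^ 2 + 1) * p ^ 2 := by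
      simp only [pr, Finset.offDiag_card, Finset.card_univ, hΩ]
      rw [Nat.mul_succ, Nat.add_sub_cancel]
    rw [hS, h, hpr, mul_comm]
  -- no reflections
  have hnoR : R = ∅ := by
    by_contra hne
    have hpos : 0 < Nat.card R := by
      rw [Nat.card_coe_set_eq, Set.ncard_pos]; exact Set.nonempty_iff_ne_empty.mpr hne
    have h := hcount (p + 1)
    have hc : Nat.card {s : G // s ∈ L ∧ s * s = 1 ∧ s ≠ 1 ∧ fx s = p + 1} = Nat.card R :=
      Nat.card_congr (Equiv.subtypeEquivRight fun s => by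
        constructor
        · rintro ⟨hs, a1, a2, a3⟩; rw [hfxL s hs] at a3; exact ⟨hs, a1, a2, by omega⟩
        · rintro ⟨hs, a1, a2, a3⟩; exact ⟨hs, a1, a2, by rw [hfxL s hs, a3]⟩)
    rw [hc, show (p + 1) * (p + 1) - (p + 1) = (p + 1) * p by rw [Nat.mul_succ, Nat.add_sub_cancel]]
      at h
    set m := Nat.card {s : G // s * s = 1 ∧ s ≠ 1 ∧ fx s = p + 1}
    have hz : (m : ℤ) * (p + 1) = (Nat.card R : ℤ) * (((p : ℤ) ^ 2 + 1) * p) := by
      have h0 : (m : ℤ) * ((p + 1) * p) = (Nat.card R : ℤ) * (((p : ℤ) ^ 2 + 1) * p ^ 2) := by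
        exact_mod_cast h
      apply mul_right_cancel₀ (show (p : ℤ) ≠ 0 by exact_mod_cast hp.ne_zero)
      linear_combination h0
    have hdvd : ((p : ℤ) + 1) ∣ 2 * (Nat.card R : ℤ) :=
      ⟨-(m : ℤ) + (Nat.card R : ℤ) * ((p : ℤ) ^ 2 - p + 2), by linear_combination hz⟩
    have hle := Int.le_of_dvd (by omega) hdvd
    have hR2 : Nat.card R = 2 ∧ p = 3 := by omega
    obtain ⟨l, hl, hl2, -, hlc⟩ := Set.nonempty_iff_ne_empty.mpr hne
    have := hmove l hl2
    rw [hfxL l hl, hlc, hR2.2] at this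
    exact absurd this (by decide)
  have hfxall : ∀ s : G, s * s = 1 → s ≠ 1 → fx s = 2 := by
    intro s hs hs1
    refine (hfx s hs hs1).resolve_right fun h => ?_
    have hh := hcount (p + 1)
    have hz : Nat.card {s : G // s ∈ L ∧ s * s = 1 ∧ s ≠ 1 ∧ fx s = p + 1} = 0 := by
      haveI : IsEmpty {s : G // s ∈ L ∧ s * s = 1 ∧ s ≠ 1 ∧ fx s = p + 1} := ⟨fun x => by
        have h3 := x.2.2.2.2
        rw [hfxL _ x.2.1] at h3
        have : (x : G) ∈ R := ⟨x.2.1, x.2.2.1, x.2.2.2.1, by omega⟩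
        rw [hnoR] at this
        exact this⟩
      exact Nat.card_of_isEmpty
    rw [hz, zero_mul, mul_eq_zero] at hh
    rcases hh with hh | hh
    · haveI : Nonempty {s : G // s * s = 1 ∧ s ≠ 1 ∧ fx s = p + 1} := ⟨⟨s, hs, hs1, h⟩⟩
      exact absurd hh Nat.card_pos.ne'
    · rw [Nat.sub_eq_zero_iff_le] at hh; nlinarith
  -- all involutions are accounted for by one involution of `L`
  have hI := hcount 2
  set I := Nat.card {s : G // s * s = 1 ∧ s ≠ 1 ∧ fx s = 2} with hIdef
  have hIL : Nat.card {s : G // s ∈ L ∧ s * s = 1 ∧ s ≠ 1 ∧ fx s = 2} ≤ 1 := by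
    rw [Finite.card_le_one_iff_subsingleton]
    refine ⟨fun x y => Subtype.ext ?_⟩
    have hx := x.2.2.2.2
    have hy := y.2.2.2.2
    rw [hfxL _ x.2.1] at hx
    rw [hfxL _ y.2.1] at hy
    exact hone _ x.2.1 _ y.2.1 x.2.2.1 y.2.2.1 (by omega) (by omega)
  have hIpos : 0 < I := by
    have h2G : 2 ∣ Nat.card G := by
      haveI : IsPretransitive G Ω := isPretransitive_of_is_two_pretransitive
      have := Subgroup.index_dvd_card (stabilizer G a)
      rw [index_stabilizer_of_transitive, Nat.card_eq_fintype_card, hΩ] at this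
      refine Nat.dvd_trans ?_ this
      obtain ⟨r, hr⟩ := hpodd.pow (n := 2)
      omega
    obtain ⟨s, hs⟩ := exists_prime_orderOf_dvd_card' 2 h2G
    have hs2 : s * s = 1 := by rw [← sq, ← hs, pow_orderOf_eq_one]
    have hs1 : s ≠ 1 := by intro he; simp [he] at hs
    haveI : Nonempty {s : G // s * s = 1 ∧ s ≠ 1 ∧ fx s = 2} := ⟨⟨s, hs2, hs1, hfxall s hs2 hs1⟩⟩
    exact Nat.card_pos
  have hI2 : I * 2 = (p ^ 2 + 1) * p ^ 2 := by
    have hk : Nat.card {s : G // s ∈ L ∧ s * s = 1 ∧ s ≠ 1 ∧ fx s = 2} = 1 := by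
      rcases Nat.le_one_iff_eq_zero_or_eq_one.mp hIL with h | h
      · rw [h, zero_mul] at hI; omega
      · exact h
    rw [hk, one_mul] at hI
    exact hI
  -- swappers of a pair
  let S : Finset G := Finset.univ.filter fun s => s * s = 1 ∧ s ≠ 1
  let pr : Finset (Ω × Ω) := (Finset.univ : Finset Ω).offDiag
  let W := Nat.card {s : G // s * s = 1 ∧ s ≠ 1 ∧ s • a = b}
  have h1 : ∀ s ∈ S, (pr.filter fun z => s • z.1 = z.2).card = p ^ 2 - 1 := by
    intro s hs
    obtain ⟨hs2, hs1⟩ := (Finset.mem_filter.mp hs).2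
    have himg : (pr.filter fun z => s • z.1 = z.2) =
        (Finset.univ.filter fun v : Ω => ¬ s • v = v).image (fun v => (v, s • v)) := by
      ext z
      simp only [pr, Finset.mem_filter, Finset.mem_offDiag, Finset.mem_univ, true_and,
        Finset.mem_image]
      constructor
      · rintro ⟨hne, he⟩
        exact ⟨z.1, fun h => hne (h.symm.trans he), Prod.ext rfl he⟩
      · rintro ⟨v, hv, rfl⟩
        exact ⟨fun h => hv h.symm, rfl⟩
    rw [himg, Finset.card_image_of_injective _ fun x y h => (Prod.mk.inj h).1,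
      Finset.filter_not, Finset.card_sdiff, Finset.inter_univ, Finset.card_univ, hΩ]
    have := hfxall s hs2 hs1
    simp only [fx, Nat.card_eq_fintype_card, Fintype.card_subtype] at this
    rw [this]; omega
  have h2c : ∀ z ∈ pr, (S.filter fun s => s • z.1 = z.2).card = W := by
    intro z hz
    obtain ⟨g, hga, hgb⟩ := h2' (Finset.mem_offDiag.mp hz).2.2 hab
    simp only [W, Nat.card_eq_fintype_card, Fintype.card_subtype]
    refine Finset.card_equiv (MulAut.conj g).toEquiv fun s => ?_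
    simp only [S, Finset.mem_filter, Finset.mem_univ, true_and, MulEquiv.toEquiv_eq_coe,
      MulEquiv.coe_toEquiv, MulAut.conj_apply]
    rw [← hga, ← hgb]
    simp only [mul_smul, inv_smul_smul, smul_left_cancel_iff, ne_eq, conj_eq_one_iff]
    have hsq : g * s * g⁻¹ * (g * s * g⁻¹) = 1 ↔ s * s = 1 := by
      rw [show g * s * g⁻¹ * (g * s * g⁻¹) = g * (s * s) * g⁻¹ by group, conj_eq_one_iff]
    rw [hsq]; tauto
  have hsum := Finset.sum_card_bipartiteAbove_eq_sum_card_bipartiteBelow (s := S) (t := pr)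
    (fun (s : G) (z : Ω × Ω) => s • z.1 = z.2)
  simp only [Finset.bipartiteAbove, Finset.bipartiteBelow] at hsum
  rw [Finset.sum_congr rfl h1, Finset.sum_congr rfl h2c, Finset.sum_const, Finset.sum_const,
    smul_eq_mul, smul_eq_mul] at hsum
  have hSI : S.card = I := by
    rw [hIdef, Nat.card_eq_fintype_card, Fintype.card_subtype]
    refine congrArg _ (Finset.filter_congr fun s _ => ?_)
    exact ⟨fun h => ⟨h.1, h.2, hfxall s h.1 h.2⟩, fun h => ⟨h.1, h.2.1⟩⟩
  have hpr : pr.card = (p ^ 2 + 1) * p ^ 2 := by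
    simp only [pr, Finset.offDiag_card, Finset.card_univ, hΩ]
    rw [Nat.mul_succ, Nat.add_sub_cancel]
  rw [hSI, hpr, ← hI2] at hsum
  have hW : 2 * W = p ^ 2 - 1 :=
    (Nat.eq_of_mul_eq_mul_left hIpos (hsum.trans (mul_assoc I 2 W))).symm
  -- bound on the two point stabiliser
  have hWL : W ≤ Nat.card L := by
    by_cases hex : ∃ s : G, s * s = 1 ∧ s ≠ 1 ∧ s • a = b
    · obtain ⟨s₀, h02, -, h0ab⟩ := hex
      have hswap : ∀ s : G, s * s = 1 → s • a = b → s • b = a := fun s h h' => by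
        rw [← h', ← mul_smul, h, one_smul]
      refine inj_count (fun s : {s : G // s * s = 1 ∧ s ≠ 1 ∧ s • a = b} =>
        (⟨s.1 * s₀, hLmem.mpr ⟨by rw [mul_smul, h0ab, hswap _ s.2.1 s.2.2.2],
          by rw [mul_smul, hswap _ h02 h0ab, s.2.2.2]⟩⟩ : L)) ?_ le_rfl
      intro x y he
      exact Subtype.ext (mul_right_cancel (congrArg Subtype.val he))
    · haveI : IsEmpty {s : G // s * s = 1 ∧ s ≠ 1 ∧ s • a = b} := ⟨fun x => hex ⟨x, x.2⟩⟩
      simp [W]
  have hLb : 2 * Nat.card L ≤ (p - 1) * (p - 1) := by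
    let θ : L →* MulAut P₀ :=
      { toFun := fun l =>
          { toFun := fun h => ⟨(l : G) * h * (l : G)⁻¹, hP₀n' l l.2 h h.2⟩
            invFun := fun h => ⟨(l : G)⁻¹ * h * l, by
              have := hP₀n' _ (L.inv_mem l.2) h h.2
              rwa [inv_inv] at this⟩
            left_inv := fun h => by ext; simp [mul_assoc]
            right_inv := fun h => by ext; simp [mul_assoc]
            map_mul' := fun x y => by ext; simp [mul_assoc] }
        map_one' := by ext h; simp
        map_mul' := fun x y => by ext h; simp [mul_assoc] }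
    have hker : ∀ l : L, l ∈ θ.ker ↔ ∀ h ∈ P₀, (l : G) * h = h * l := by
      intro l
      rw [MonoidHom.mem_ker]
      constructor
      · intro h0 h hh
        have := congrArg (fun f : MulAut P₀ => (f ⟨h, hh⟩ : G)) h0
        exact mul_inv_eq_iff_eq_mul.mp this
      · intro h0
        ext h
        show (l : G) * h * (l : G)⁻¹ = h
        rw [h0 h h.2, mul_inv_cancel_right]
    have hAut : Nat.card (MulAut P₀) = p - 1 := by
      rw [IsCyclic.card_mulAut, hP₀c, Nat.totient_prime hp]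
    haveI : (P₀.subgroupOf P).Normal :=
      ⟨fun n hn g => by
        rw [Subgroup.mem_subgroupOf] at hn ⊢
        simp only [Subgroup.coe_mul, InvMemClass.coe_inv]
        rw [hPab _ g.2 _ n.2, mul_inv_cancel_right]; exact hn⟩
    have hQc : Nat.card (P ⧸ P₀.subgroupOf P) = p := by
      have := Subgroup.card_eq_card_quotient_mul_card_subgroup (P₀.subgroupOf P)
      rw [hP, Nat.card_congr (Subgroup.subgroupOfEquivOfLe hP₀).toEquiv, hP₀c, sq] at this
      exact (Nat.eq_of_mul_eq_mul_right hp.pos this).symm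
    haveI : IsCyclic (P ⧸ P₀.subgroupOf P) := isCyclic_of_prime_card hQc
    haveI : Finite P := inferInstance
    let cj : L → (P ≃* P) := fun l =>
      { toFun := fun h => ⟨(l : G) * h * (l : G)⁻¹, hPn' l l.2 h h.2⟩
        invFun := fun h => ⟨(l : G)⁻¹ * h * l, by
          have := hPn' _ (L.inv_mem l.2) h h.2
          rwa [inv_inv] at this⟩
        left_inv := fun h => by ext; simp [mul_assoc]
        right_inv := fun h => by ext; simp [mul_assoc]
        map_mul' := fun x y => by ext; simp [mul_assoc] }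
    have hmap : ∀ l : L, (P₀.subgroupOf P).map (cj l : P →* P) = P₀.subgroupOf P := by
      intro l
      refine Subgroup.eq_of_le_of_card_ge (fun x hx => ?_) ?_
      · obtain ⟨y, hy, rfl⟩ := Subgroup.mem_map.mp hx
        exact hP₀n' l l.2 _ hy
      · rw [Subgroup.card_map_of_injective (cj l).injective]
    let ψ : θ.ker →* MulAut (P ⧸ P₀.subgroupOf P) :=
      { toFun := fun l => QuotientGroup.congr _ _ (cj l.1) (hmap l.1)
        map_one' := by
          ext x; induction x using QuotientGroup.induction_on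
          simp [cj]
        map_mul' := fun u v => by
          ext x; induction x using QuotientGroup.induction_on
          simp [cj]; congr 1; ext; simp [mul_assoc] }
    have hψ : Function.Injective ψ := by
      rw [injective_iff_map_eq_one]
      intro l hl
      refine Subtype.ext (Subtype.ext (hstable _ l.1.2 ((hker l.1).mp l.2) fun h hh => ?_))
      have := congrArg (fun f : MulAut (P ⧸ P₀.subgroupOf P) => f (QuotientGroup.mk ⟨h, hh⟩)) hl
      simp only [ψ, MonoidHom.coe_mk, OneHom.coe_mk, MulAut.one_apply] at this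
      rw [QuotientGroup.congr_mk, QuotientGroup.eq_iff_div_mem, Subgroup.mem_subgroupOf] at this
      simpa [cj, div_eq_mul_inv] using this
    have hk1 : Nat.card θ.ker ∣ p - 1 := by
      have := Subgroup.card_subgroup_dvd_card ψ.range
      rwa [IsCyclic.card_mulAut, hQc, Nat.totient_prime hp,
        ← Nat.card_congr (MonoidHom.ofInjective hψ).toEquiv] at this
    have hk2 : ¬ 2 ∣ Nat.card θ.ker := by
      intro h2
      obtain ⟨l, hl⟩ := exists_prime_orderOf_dvd_card' 2 h2
      have hlG : orderOf ((l : L) : G) = 2 := by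
        rw [Subgroup.orderOf_coe, Subgroup.orderOf_coe, hl]
      have hl2 : ((l : L) : G) * (l : L) = 1 := by rw [← sq, ← hlG, pow_orderOf_eq_one]
      have hl1 : ((l : L) : G) ≠ 1 := by intro he; simp [he] at hlG
      rcases hcardfix _ l.1.2 hl2 hl1 with hc | hc
      · have hle : P₀ ≤ fixIn P ((l : L) : G) := fun x hx =>
          mem_fixIn.mpr ⟨hP₀ hx, (hker l.1).mp l.2 x hx⟩
        have := Subgroup.card_le_of_le hle
        omega
      · have : ((l : L) : G) ∈ R := ⟨l.1.2, hl2, hl1, hc⟩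
        rw [hnoR] at this
        exact this
    have hk3 : 2 * Nat.card θ.ker ≤ p - 1 := by
      obtain ⟨c, hc⟩ := hk1
      have hc2 : 2 ∣ c := by
        refine ((Nat.prime_two.dvd_mul).mp ?_).resolve_left hk2
        rw [← hc]
        obtain ⟨r, hr⟩ := hpodd
        omega
      have hc0 : c ≠ 0 := by rintro rfl; omega
      have : 2 ≤ c := Nat.le_of_dvd (Nat.pos_of_ne_zero hc0) hc2
      rw [hc]; rw [mul_comm]; exact Nat.mul_le_mul_left _ this
    have hidx : θ.ker.index ≤ p - 1 := by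
      rw [Subgroup.index_ker, ← hAut]; exact Subgroup.card_le_card_group _
    rw [← θ.ker.card_mul_index, ← mul_assoc]
    exact Nat.mul_le_mul hk3 hidx
  have h1 : 2 * W ≤ (p - 1) * (p - 1) := le_trans (by omega) hLb
  obtain ⟨q, rfl⟩ : ∃ q, p = q + 1 := ⟨p - 1, by omega⟩
  rw [hW] at h1
  simp only [Nat.add_sub_cancel] at h1
  have : (q + 1) ^ 2 - 1 = q * q + 2 * q := by
    rw [show (q + 1) ^ 2 = q * q + 2 * q + 1 by ring, Nat.add_sub_cancel]
  omega

end Cfsg.Agent.PSqOne
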