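import Mathlib
import Cfsg.Agent.Lib.Perm.PSqOne.Blocks

/-!
# A `p`-subgroup transitive on the parts

The Sylow subgroup of a point stabiliser is regular on the other points and the kernel on the parts
acts faithfully on each part.
-/

set_option autoImplicit false

open MulAction

namespace Cfsg.Agent.PSqOne

variable {G Ω : Type*} [Group G] [MulAction G Ω] {p : ℕ}

namespace BlockSys

variable (S : BlockSys G Ω p)

/-- The parts seen from `a`. -/
abbrev Parts (a : Ω) : Type _ := {T : Set Ω // ∃ v, v ≠ a ∧ S.blk a v = T}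

/-- The part of a point. -/
def part (a v : Ω) (hv : v ≠ a) : S.Parts a := ⟨S.blk a v, v, hv, rfl⟩

theorem part_eq_iff {a v w : Ω} (hv : v ≠ a) (hw : w ≠ a) :
    S.part a v hv = S.part a w hw ↔ v ∈ S.blk a w := by
  constructor
  · intro h
    rw [← show S.blk a v = S.blk a w from congrArg Subtype.val h]
    exact S.mem a v hv.symm
  · intro h
    exact Subtype.ext (S.eq_of_mem a w v hw.symm h)

/-- The action of the point stabiliser on the parts. -/
def blockHom (a : Ω) : stabilizer G a →* Equiv.Perm (S.Parts a) where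
  toFun g :=
    { toFun := fun T => ⟨(fun w => (g : G) • w) '' T.1, by
        obtain ⟨v, hv, hT⟩ := T.2
        refine ⟨(g : G) • v, fun h => hv ((smul_left_cancel _ (h.trans g.2.symm))), ?_⟩
        rw [← hT, S.image_blk g.1 hv.symm, mem_stabilizer_iff.mp g.2]⟩
      invFun := fun T => ⟨(fun w => (g : G)⁻¹ • w) '' T.1, by
        obtain ⟨v, hv, hT⟩ := T.2
        have hga : (g : G)⁻¹ • a = a := inv_smul_eq_iff.mpr g.2.symm
        refine ⟨(g : G)⁻¹ • v, fun h => hv (smul_left_cancel _ (h.trans hga.symm)), ?_⟩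
        rw [← hT, S.image_blk _ hv.symm, hga]⟩
      left_inv := fun T => Subtype.ext (by simp [Set.image_image])
      right_inv := fun T => Subtype.ext (by simp [Set.image_image]) }
  map_one' := by ext T; simp
  map_mul' g h := by ext T; simp [Set.image_image, mul_smul]

theorem blockHom_part {a v : Ω} (hv : v ≠ a) (g : stabilizer G a) (hgv : (g : G) • v ≠ a) :
    S.blockHom a g (S.part a v hv) = S.part a ((g : G) • v) hgv := by
  refine Subtype.ext ?_
  show (fun w => (g : G) • w) '' S.blk a v = S.blk a ((g : G) • v)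
  rw [S.image_blk _ hv.symm, mem_stabilizer_iff.mp g.2]

/-- The kernel on the parts seen from `a`. -/
def kern (a : Ω) : Subgroup G := (S.blockHom a).ker.map (stabilizer G a).subtype

theorem mem_kern {a : Ω} {g : G} :
    g ∈ S.kern a ↔ g • a = a ∧ ∀ v, v ≠ a → g • v ∈ S.blk a v := by
  constructor
  · rintro ⟨x, hx, rfl⟩
    refine ⟨x.2, fun v hv => ?_⟩
    have hne : (x : G) • v ≠ a := fun h => hv (smul_left_cancel _ (h.trans x.2.symm))
    have h := S.blockHom_part hv x hne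
    rw [MonoidHom.mem_ker.mp hx] at h
    exact (S.part_eq_iff hne hv).mp h.symm
  · rintro ⟨ha, hv⟩
    refine ⟨⟨g, ha⟩, MonoidHom.mem_ker.mpr (Equiv.ext fun T => ?_), rfl⟩
    obtain ⟨v, hva, hT⟩ := T.2
    have hne : g • v ≠ a := fun h => hva (smul_left_cancel _ (h.trans ha.symm))
    have hT' : T = S.part a v hva := Subtype.ext hT.symm
    rw [hT', S.blockHom_part hva ⟨g, ha⟩ hne]
    exact (S.part_eq_iff hne hva).mpr (hv v hva)

theorem kern_conj {a : Ω} {g k : G} (hg : g • a = a) (hk : k ∈ S.kern a) :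
    g * k * g⁻¹ ∈ S.kern a := by
  obtain ⟨x, hx, rfl⟩ := hk
  exact ⟨⟨g, hg⟩ * x * ⟨g, hg⟩⁻¹, (MonoidHom.normal_ker _).conj_mem x hx ⟨g, hg⟩, rfl⟩

theorem smul_mem_blk_iff {a : Ω} {g : G} (hg : g • a = a) {v w : Ω} (hv : v ≠ a) :
    g • w ∈ S.blk a (g • v) ↔ w ∈ S.blk a v := by
  have := S.smul_mem g a v w hv.symm
  rwa [hg] at this

theorem card_parts [Fintype Ω] [Fact p.Prime] (hΩ : Fintype.card Ω = p ^ 2 + 1) (a : Ω) :
    Nat.card (S.Parts a) = p := by
  classical
  have hp : p.Prime := Fact.out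
  let f : {v : Ω // v ≠ a} → S.Parts a := fun v => S.part a v v.2
  have hfib : ∀ T : S.Parts a, Nat.card {v : {v : Ω // v ≠ a} // f v = T} = p := by
    intro T
    obtain ⟨u, hu, hT⟩ := T.2
    refine Eq.trans ?_ (S.ncard a u hu.symm)
    rw [← Nat.card_coe_set_eq]
    have hT' : T = S.part a u hu := Subtype.ext hT.symm
    refine Nat.card_congr
      { toFun := fun v => ⟨v.1.1, (S.part_eq_iff v.1.2 hu).mp (v.2.trans hT')⟩
        invFun := fun w => ⟨⟨w.1, (S.ne_of_mem hu.symm w.2).symm⟩,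
          ((S.part_eq_iff (S.ne_of_mem hu.symm w.2).symm hu).mpr w.2).trans hT'.symm⟩
        left_inv := fun v => rfl
        right_inv := fun w => rfl }
  haveI : Fintype (S.Parts a) := Fintype.ofFinite _
  have h := Nat.card_congr (Equiv.sigmaFiberEquiv f)
  rw [Nat.card_sigma, Finset.sum_congr rfl fun T _ => hfib T, Finset.sum_const, Finset.card_univ,
    smul_eq_mul, Nat.card_eq_fintype_card (α := {v : Ω // v ≠ a}), Fintype.card_subtype_compl,
    Fintype.card_subtype_eq, hΩ, Nat.add_sub_cancel, sq] at h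
  rw [Nat.card_eq_fintype_card]
  exact Nat.eq_of_mul_eq_mul_right hp.pos h

/-- The Sylow subgroup of a point stabiliser of a doubly transitive group of degree `p² + 1`. -/
theorem exists_transitive_sylow [Fintype Ω] [Finite G] [Fact p.Prime]
    (hΩ : Fintype.card Ω = p ^ 2 + 1) (h2 : IsMultiplyPretransitive G Ω 2) (a : Ω) :
    ∃ P : Subgroup G, P ≤ stabilizer G a ∧ IsPGroup p P ∧
      (∀ v w : Ω, v ≠ a → w ≠ a → ∃ y ∈ P, y • v = w) ∧
      ∃ m, ¬ p ∣ m ∧ Nat.card (stabilizer G a) = Nat.card P * m := by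
  classical
  have hp : p.Prime := Fact.out
  let A : Subgroup G := stabilizer G a
  obtain ⟨Q⟩ : Nonempty (Sylow p A) := inferInstance
  refine ⟨(Q : Subgroup A).map A.subtype, Subgroup.map_subtype_le _, Q.2.map _, ?_,
    (Q : Subgroup A).index, Q.not_dvd_index, ?_⟩
  swap
  · rw [Subgroup.card_map_of_injective A.subtype_injective, Subgroup.card_mul_index]
  intro v w hv hw
  let B : Type _ := {u : Ω // u ≠ a}
  letI : MulAction A B :=
    { smul := fun g u => ⟨(g : G) • u.1, fun h => u.2 (smul_left_cancel _ (h.trans g.2.symm))⟩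
      one_smul := fun u => Subtype.ext (one_smul G u.1)
      mul_smul := fun g h u => Subtype.ext (mul_smul (g : G) (h : G) u.1) }
  haveI : IsPretransitive A B := ⟨fun x y => by
    obtain ⟨g, hga, hgx⟩ := is_two_pretransitive_iff.mp h2 x.2.symm y.2.symm
    exact ⟨⟨g, hga⟩, Subtype.ext hgx⟩⟩
  have hB : Nat.card B = p ^ 2 := by
    rw [Nat.card_eq_fintype_card, Fintype.card_subtype_compl, Fintype.card_subtype_eq, hΩ,
      Nat.add_sub_cancel]
  let x : B := ⟨v, hv⟩
  have hA : Nat.card (stabilizer A x) * p ^ 2 = Nat.card A := by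
    rw [← hB, ← index_stabilizer_of_transitive A x, Subgroup.card_mul_index]
  have horb : Nat.card (orbit Q x) * Nat.card (stabilizer Q x) = Nat.card Q := by
    rw [← Nat.card_prod]
    exact Nat.card_congr (orbitProdStabilizerEquivGroup Q x)
  have hsub : Nat.card (stabilizer Q x) ∣ Nat.card (stabilizer A x) :=
    Subgroup.card_dvd_of_injective
      ({ toFun := fun g => ⟨(g : Q), g.2⟩
         map_one' := rfl
         map_mul' := fun _ _ => rfl } : stabilizer Q x →* stabilizer A x)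
      (fun g h he => Subtype.ext (Subtype.ext (congrArg (fun z : stabilizer A x => (z : A)) he)))
  obtain ⟨n, hn⟩ := Q.2.exists_card_eq
  obtain ⟨i, -, hi⟩ := (Nat.dvd_prime_pow hp).mp
    (hn ▸ Subgroup.card_subgroup_dvd_card (stabilizer Q x))
  have hd : p ^ i * p ^ 2 ∣ Nat.card Q * (Q : Subgroup A).index := by
    rw [(Q : Subgroup A).card_mul_index, ← hA, ← hi]
    exact Nat.mul_dvd_mul_right hsub _
  have hd2 : p ^ i * p ^ 2 ∣ Nat.card Q := by
    refine Nat.Coprime.dvd_of_dvd_mul_right ?_ hd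
    rw [← pow_add]
    exact (hp.coprime_iff_not_dvd.mpr Q.not_dvd_index).pow_left _
  rw [← horb, hi, mul_comm (Nat.card _)] at hd2
  have hdvd : p ^ 2 ∣ Nat.card (orbit Q x) :=
    Nat.dvd_of_mul_dvd_mul_left (pow_pos hp.pos i) hd2
  haveI : Nonempty (orbit Q x) := ⟨⟨x, mem_orbit_self x⟩⟩
  have heq : orbit Q x = Set.univ := by
    refine Set.eq_of_subset_of_ncard_le (Set.subset_univ _) ?_
    rw [Set.ncard_univ, hB, ← Nat.card_coe_set_eq]
    exact Nat.le_of_dvd Nat.card_pos hdvd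
  obtain ⟨q, hq⟩ : (⟨w, hw⟩ : B) ∈ orbit Q x := heq ▸ Set.mem_univ _
  exact ⟨((q : A) : G), ⟨q, q.2, rfl⟩, congrArg Subtype.val hq⟩

/-- The standing facts about `a`: a regular abelian Sylow subgroup `P` of the stabiliser and its
subgroup `P₀` fixing all parts. -/
structure Setup (a : Ω) (P P₀ : Subgroup G) : Prop where
  le : ∀ y ∈ P, y • a = a
  card : Nat.card P = p ^ 2
  comm : ∀ x ∈ P, ∀ y ∈ P, x * y = y * x
  trans : ∀ v w : Ω, v ≠ a → w ≠ a → ∃ y ∈ P, y • v = w
  free : ∀ y ∈ P, ∀ v : Ω, v ≠ a → y • v = v → y = 1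
  eq₀ : P₀ = P ⊓ S.kern a
  card₀ : Nat.card P₀ = p
  trans₀ : ∀ v w : Ω, v ≠ a → w ∈ S.blk a v → ∃ y ∈ P₀, y • v = w
  coprime : ∀ v : Ω, v ≠ a →
    ¬ p ∣ Nat.card (stabilizer G a ⊓ stabilizer G v : Subgroup G)

theorem exists_setup [Fintype Ω] [Finite G] [FaithfulSMul G Ω] [Fact p.Prime]
    (hΩ : Fintype.card Ω = p ^ 2 + 1) (h2 : IsMultiplyPretransitive G Ω 2) (a : Ω) :
    ∃ P P₀ : Subgroup G, S.Setup a P P₀ := by
  classical
  have hp : p.Prime := Fact.out
  obtain ⟨P, hPA, hPp, htr, m, hm, hAm⟩ := exists_transitive_sylow hΩ h2 a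
  set P₀ : Subgroup G := P ⊓ S.kern a with hP₀
  refine ⟨P, P₀, ?_⟩
  have hla : ∀ y ∈ P, y • a = a := fun y hy => hPA hy
  have hne : ∀ y ∈ P, ∀ {v : Ω}, v ≠ a → y • v ≠ a := fun y hy v hv h =>
    hv (smul_left_cancel _ (h.trans (hla y hy).symm))
  have hpow : ∀ y ∈ P, ∃ k : ℕ, y ^ p ^ k = 1 := fun y hy => by
    obtain ⟨k, hk⟩ := hPp ⟨y, hy⟩
    exact ⟨k, congrArg Subtype.val hk⟩
  obtain ⟨v₀, hv₀⟩ : ∃ v : Ω, v ≠ a :=
    Fintype.exists_ne_of_one_lt_card (by rw [hΩ]; have := pow_pos hp.pos 2; omega) a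
  have hext : ∀ g : G, g • a = a → (∀ v, v ≠ a → g • v = v) → g = 1 := fun g hga hgv =>
    eq_of_smul_eq_smul (α := Ω) fun v => by
      rw [one_smul]; by_cases hv : v = a
      · rw [hv, hga]
      · exact hgv v hv
  -- the image of `P` on the parts
  let ψ : P →* Equiv.Perm (S.Parts a) := (S.blockHom a).comp (Subgroup.inclusion hPA)
  have hψker : ψ.ker = P₀.subgroupOf P := by
    ext y
    rw [MonoidHom.mem_ker, Subgroup.mem_subgroupOf, hP₀, Subgroup.mem_inf]
    constructor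
    · intro h
      exact ⟨y.2, ⟨Subgroup.inclusion hPA y, h, rfl⟩⟩
    · rintro ⟨-, x, hx, he⟩
      have : x = Subgroup.inclusion hPA y := Subtype.ext he
      rw [this] at hx
      exact hx
  obtain ⟨n, hn⟩ := hPp.exists_card_eq
  have hrange : Nat.card ψ.range ∣ p := by
    obtain ⟨j, hj⟩ := (hPp.of_surjective ψ.rangeRestrict ψ.rangeRestrict_surjective).exists_card_eq
    rw [hj]
    rcases Nat.lt_or_ge j 2 with hj2 | hj2
    · exact (pow_dvd_pow p (by omega : j ≤ 1)).trans (by rw [pow_one])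
    · exfalso
      have hd : p ^ j ∣ p.factorial := by
        have h1 := Subgroup.card_subgroup_dvd_card ψ.range
        rwa [Nat.card_perm, S.card_parts hΩ a, hj] at h1
      have hd2 : p ^ 2 ∣ p.factorial := (pow_dvd_pow p hj2).trans hd
      rw [← Nat.mul_factorial_pred hp.ne_zero, sq] at hd2
      have := (hp.dvd_factorial).mp (Nat.dvd_of_mul_dvd_mul_left hp.pos hd2)
      have := hp.two_le
      omega
  have hP₀le : P₀ ≤ P := inf_le_left
  have hcard0 : Nat.card P₀ * Nat.card ψ.range = Nat.card P := by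
    rw [← Subgroup.index_ker, ← Nat.card_congr (Subgroup.subgroupOfEquivOfLe hP₀le).toEquiv,
      ← hψker, Subgroup.card_mul_index]
  have hPge : p ^ 2 ≤ Nat.card P := by
    have hc : Nat.card {v : Ω // v ≠ a} = p ^ 2 := by
      rw [Nat.card_eq_fintype_card, Fintype.card_subtype_compl, Fintype.card_subtype_eq, hΩ,
        Nat.add_sub_cancel]
    rw [← hc]
    refine Nat.card_le_card_of_surjective (fun y : P => ⟨(y : G) • v₀, hne y y.2 hv₀⟩) fun w => ?_
    obtain ⟨y, hy, he⟩ := htr v₀ w.1 hv₀ w.2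
    exact ⟨⟨y, hy⟩, Subtype.ext he⟩
  have hP₀ne : P₀ ≠ ⊥ := by
    intro h
    rw [Subgroup.card_eq_one.mpr h, one_mul] at hcard0
    have h3 : Nat.card ψ.range ≤ p := Nat.le_of_dvd hp.pos hrange
    have h4 := hp.two_le
    nlinarith
  have hP₀conj : ∀ y ∈ P, ∀ k ∈ P₀, y * k * y⁻¹ ∈ P₀ := fun y hy k hk =>
    ⟨P.mul_mem (P.mul_mem hy hk.1) (P.inv_mem hy), S.kern_conj (hla y hy) hk.2⟩
  -- the part is the orbit of `P₀`
  have htr₀ : ∀ v w : Ω, v ≠ a → w ∈ S.blk a v → ∃ y ∈ P₀, y • v = w := by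
    intro v w hv hw
    let Z := orbit P₀ v
    have hsub : Z ⊆ S.blk a v := by
      rintro z ⟨y, rfl⟩
      exact (S.mem_kern.mp y.2.2).2 v hv
    obtain ⟨i, hi⟩ := (hPp.to_le hP₀le).card_orbit v
    rcases Nat.eq_zero_or_pos i with rfl | hipos
    · exfalso
      rw [pow_zero, Nat.card_eq_one_iff_unique] at hi
      have hfix : ∀ k ∈ P₀, k • v = v := fun k hk =>
        congrArg Subtype.val (hi.1.elim ⟨(⟨k, hk⟩ : P₀) • v, mem_orbit _ _⟩ ⟨v, mem_orbit_self v⟩)
      refine hP₀ne (P₀.eq_bot_iff_forall.mpr fun k hk => hext k (hla k hk.1) fun u hu => ?_)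
      obtain ⟨y, hy, rfl⟩ := htr v u hv hu
      have h' := hfix _ (hP₀conj y⁻¹ (P.inv_mem hy) k hk)
      rw [inv_inv, mul_smul, mul_smul, inv_smul_eq_iff] at h'
      exact h'
    · have heq : Z = S.blk a v := by
        refine Set.eq_of_subset_of_ncard_le hsub ?_
        rw [S.ncard a v hv.symm, ← Nat.card_coe_set_eq, hi]
        exact Nat.le_self_pow hipos.ne' p
      rw [← heq] at hw
      obtain ⟨y, hy⟩ := hw
      exact ⟨y, y.2, hy⟩
  -- point stabilisers in `P₀`
  let D : Ω → Subgroup G := fun v => P₀ ⊓ stabilizer G v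
  have hcardD : ∀ v, v ≠ a → p * Nat.card (D v) = Nat.card P₀ := by
    intro v hv
    have horb : orbit P₀ v = S.blk a v := by
      ext w
      constructor
      · rintro ⟨y, rfl⟩; exact (S.mem_kern.mp y.2.2).2 v hv
      · intro hw; obtain ⟨y, hy, he⟩ := htr₀ v w hv hw; exact ⟨⟨y, hy⟩, he⟩
    have h := Nat.card_congr (orbitProdStabilizerEquivGroup P₀ v)
    rw [Nat.card_prod, horb, Nat.card_coe_set_eq, S.ncard a v hv.symm] at h
    rw [← h]
    refine congrArg (p * ·) (Nat.card_congr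
      { toFun := fun y => ⟨⟨y.1, y.2.1⟩, y.2.2⟩
        invFun := fun y => ⟨y.1.1, y.1.2, y.2⟩
        left_inv := fun y => rfl
        right_inv := fun y => rfl })
  have hDblk : ∀ v, v ≠ a → ∀ k ∈ D v, ∀ w ∈ S.blk a v, k • w = w := by
    intro v hv k hk w hw
    obtain ⟨i, hi⟩ := hpow k hk.1.1
    exact S.fix_of_pow hi hv.symm (hla k hk.1.1) hk.2 hw
  obtain ⟨c, hc, hca, hcb⟩ := S.exists_asymm hp.two_le hΩ h2 a v₀ hv₀.symm
  have hDc : D c = D v₀ := by
    have hle : D v₀ ≤ D c := fun k (hk : k ∈ P₀ ⊓ stabilizer G v₀) => by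
      obtain ⟨i, hi⟩ := hpow k hk.1.1
      exact ⟨hk.1, S.fix_of_pow hi hv₀ hk.2 (hla k hk.1.1) hc⟩
    refine (Subgroup.eq_of_le_of_card_ge hle ?_).symm
    exact (Nat.eq_of_mul_eq_mul_left hp.pos ((hcardD c hca).trans (hcardD v₀ hv₀).symm)).le
  have hDbot : D v₀ = ⊥ := by
    obtain ⟨y, hy, hyc⟩ := htr v₀ c hv₀ hca
    have hnorm : ∀ k ∈ D v₀, y⁻¹ * k * y ∈ D v₀ := by
      intro k hk
      have hk' : k ∈ D c := hDc ▸ hk
      refine ⟨?_, ?_⟩
      · have := hP₀conj y⁻¹ (P.inv_mem hy) k hk.1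
        rwa [inv_inv] at this
      · show (y⁻¹ * k * y) • v₀ = v₀
        rw [mul_smul, mul_smul, hyc, show k • c = c from hk'.2, ← hyc, inv_smul_smul]
    have hpw : ∀ (j : ℕ), ∀ k ∈ D v₀, k • (y ^ j • v₀) = y ^ j • v₀ := by
      intro j
      induction j with
      | zero => intro k hk; rw [pow_zero, one_smul]; exact hk.2
      | succ j ih =>
        intro k hk
        have h' := ih _ (hnorm k hk)
        rw [mul_smul, mul_smul, inv_smul_eq_iff, ← mul_smul y, ← pow_succ'] at h'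
        exact h'
    have hyK : ψ ⟨y, hy⟩ ≠ 1 := by
      intro h
      have h' : (⟨y, hy⟩ : P) ∈ ψ.ker := h
      rw [hψker, Subgroup.mem_subgroupOf] at h'
      exact hcb (hyc ▸ (S.mem_kern.mp h'.2).2 v₀ hv₀)
    refine (Subgroup.eq_bot_iff_forall _).mpr fun k hk => hext k (hla k hk.1.1) fun v hv => ?_
    obtain ⟨z, hz, rfl⟩ := htr v₀ v hv₀ hv
    have hr : Nat.card ψ.range = p := by
      refine ((Nat.dvd_prime hp).mp hrange).resolve_left fun h => hyK ?_
      haveI : Subsingleton ψ.range := (Nat.card_eq_one_iff_unique.mp h).1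
      exact congrArg Subtype.val (Subsingleton.elim (⟨ψ ⟨y, hy⟩, ⟨_, rfl⟩⟩ : ψ.range) 1)
    obtain ⟨j, hj⟩ := mem_powers_of_prime_card hr (g := (⟨ψ ⟨y, hy⟩, ⟨_, rfl⟩⟩ : ψ.range))
      (g' := ⟨ψ ⟨z, hz⟩, ⟨_, rfl⟩⟩) (fun h => hyK (congrArg Subtype.val h))
    have hyj : y ^ j ∈ P := P.pow_mem hy j
    have hj' : ψ ⟨y ^ j, hyj⟩ = ψ ⟨z, hz⟩ := by
      rw [show (⟨y ^ j, hyj⟩ : P) = ⟨y, hy⟩ ^ j from Subtype.ext (by simp), map_pow]
      exact congrArg Subtype.val hj
    have hpart : S.part a (z • v₀) (hne z hz hv₀) = S.part a (y ^ j • v₀) (hne _ hyj hv₀) := by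
      have e1 := S.blockHom_part hv₀ (Subgroup.inclusion hPA ⟨z, hz⟩) (hne z hz hv₀)
      have e2 := S.blockHom_part hv₀ (Subgroup.inclusion hPA ⟨y ^ j, hyj⟩) (hne _ hyj hv₀)
      exact e1.symm.trans
        ((congrArg (fun f : Equiv.Perm (S.Parts a) => f (S.part a v₀ hv₀)) hj').symm.trans e2)
    exact hDblk _ (hne _ hyj hv₀) k ⟨hk.1, hpw j k hk⟩ _ ((S.part_eq_iff _ _).mp hpart)
  have hc0 : Nat.card P₀ = p := by
    rw [← hcardD v₀ hv₀, hDbot, Subgroup.card_bot, mul_one]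
  have hPc : Nat.card P = p ^ 2 := by
    refine le_antisymm ?_ hPge
    rw [← hcard0, hc0, sq]
    exact Nat.mul_le_mul_left _ (Nat.le_of_dvd hp.pos hrange)
  haveI : IsMulCommutative P := IsPGroup.isMulCommutative_of_card_eq_prime_sq (p := p) hPc
  have hfree : ∀ y ∈ P, ∀ v : Ω, v ≠ a → y • v = v → y = 1 := by
    intro y hy v hv he
    have hbij : Function.Bijective (fun y : P => (⟨(y : G) • v, hne y y.2 hv⟩ : {u : Ω // u ≠ a})) := by
      refine (Nat.bijective_iff_surjective_and_card _).mpr ⟨fun w => ?_, ?_⟩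
      · obtain ⟨y, hy, he⟩ := htr v w.1 hv w.2
        exact ⟨⟨y, hy⟩, Subtype.ext he⟩
      · rw [hPc, Nat.card_eq_fintype_card, Fintype.card_subtype_compl, Fintype.card_subtype_eq,
          hΩ, Nat.add_sub_cancel]
    exact congrArg Subtype.val (hbij.1 (a₁ := ⟨y, hy⟩) (a₂ := 1) (Subtype.ext (by simpa using he)))
  refine ⟨hla, hPc, fun x hx y hy => ?_, htr, hfree, rfl, hc0, htr₀, fun v hv => ?_⟩
  · exact congrArg Subtype.val (mul_comm' (⟨x, hx⟩ : P) ⟨y, hy⟩)
  · intro hd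
    have hrel : Nat.card (stabilizer G a ⊓ stabilizer G v : Subgroup G) * p ^ 2 =
        Nat.card (stabilizer G a) := by
      have horb : orbit (stabilizer G a) v = {u : Ω | u ≠ a} := by
        ext u
        constructor
        · rintro ⟨g, rfl⟩ h; exact hv (smul_left_cancel _ (h.trans g.2.symm))
        · intro hu
          obtain ⟨y, hy, he⟩ := htr v u hv hu
          exact ⟨⟨y, hPA hy⟩, he⟩
      have h := Nat.card_congr (orbitProdStabilizerEquivGroup (stabilizer G a) v)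
      rw [Nat.card_prod, horb] at h
      rw [← h, mul_comm]
      congr 1
      · show _ = Nat.card {u : Ω // u ≠ a}
        rw [Nat.card_eq_fintype_card, Fintype.card_subtype_compl, Fintype.card_subtype_eq, hΩ,
          Nat.add_sub_cancel]
      · exact Nat.card_congr
          { toFun := fun g => ⟨⟨g.1, g.2.1⟩, g.2.2⟩
            invFun := fun g => ⟨g.1.1, g.1.2, g.2⟩
            left_inv := fun g => rfl
            right_inv := fun g => rfl }
    rw [hAm, hPc, mul_comm (p ^ 2)] at hrel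
    exact hm ((Nat.eq_of_mul_eq_mul_right (pow_pos hp.pos 2) hrel) ▸ hd)

/-- The kernel on the parts is faithful on each part. -/
theorem kern_faithful [Finite Ω] [Finite G] [FaithfulSMul G Ω] [Fact p.Prime] {a : Ω}
    {P P₀ : Subgroup G} (hS : S.Setup a P P₀) {v : Ω} (hv : v ≠ a) {k : G}
    (hk : k ∈ S.kern a) (hfix : ∀ w ∈ S.blk a v, k • w = w) : k = 1 := by
  classical
  have hp : p.Prime := Fact.out
  have hk0 : P₀ ≤ S.kern a := hS.eq₀ ▸ inf_le_right
  let N : Subgroup G := S.kern a ⊓ fixingSubgroup G (S.blk a v)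
  have hkN : k ∈ N := ⟨hk, (mem_fixingSubgroup_iff G).mpr hfix⟩
  have hNconj : ∀ y ∈ P₀, ∀ n ∈ N, y⁻¹ * n * y ∈ N := by
    intro y hy n hn
    refine ⟨(S.kern a).mul_mem ((S.kern a).mul_mem ((S.kern a).inv_mem (hk0 hy)) hn.1) (hk0 hy),
      (mem_fixingSubgroup_iff G).mpr fun w hw => ?_⟩
    have hyw : y • w ∈ S.blk a v := by
      have h1 := (S.mem_kern.mp (hk0 hy)).2 w (S.ne_of_mem hv.symm hw).symm
      rwa [S.eq_of_mem a v w hv.symm hw] at h1
    rw [mul_smul, mul_smul, (mem_fixingSubgroup_iff G).mp hn.2 _ hyw, inv_smul_smul]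
  refine eq_of_smul_eq_smul (α := Ω) fun w => ?_
  rw [one_smul]
  by_cases hw : w = a
  · rw [hw]; exact (S.mem_kern.mp hk).1
  by_contra hne
  obtain ⟨y, hy, hyw⟩ := hS.trans₀ w (k • w) hw ((S.mem_kern.mp hk).2 w hw)
  have hy1 : y ≠ 1 := fun h => hne (by rw [← hyw, h, one_smul])
  have hclosed : ∀ j : ℕ, y ^ j • w ∈ orbit N w := by
    intro j
    induction j with
    | zero => rw [pow_zero, one_smul]; exact mem_orbit_self w
    | succ j ih =>
      obtain ⟨n, hn⟩ := ih
      have hn' : y * (n : G) * y⁻¹ ∈ N := by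
        have := hNconj y⁻¹ (P₀.inv_mem hy) n n.2
        rwa [inv_inv] at this
      refine ⟨⟨_, N.mul_mem hn' hkN⟩, ?_⟩
      show (y * (n : G) * y⁻¹ * k) • w = _
      rw [mul_smul _ k, ← hyw, mul_smul, inv_smul_smul, mul_smul, show (n : G) • w = y ^ j • w from hn,
        ← mul_smul, ← pow_succ']
  have horb : orbit N w = S.blk a w := by
    ext z
    constructor
    · rintro ⟨n, rfl⟩; exact (S.mem_kern.mp n.2.1).2 w hw
    · intro hz
      obtain ⟨x, hx, rfl⟩ := hS.trans₀ w z hw hz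
      obtain ⟨j, hj⟩ := mem_powers_of_prime_card hS.card₀ (g := (⟨y, hy⟩ : P₀)) (g' := ⟨x, hx⟩)
        (fun h => hy1 (congrArg Subtype.val h))
      have : y ^ j = x := congrArg Subtype.val hj
      exact this ▸ hclosed j
  have hdvd : p ∣ Nat.card N := by
    have h := Nat.card_congr (orbitProdStabilizerEquivGroup N w)
    rw [Nat.card_prod, horb, Nat.card_coe_set_eq, S.ncard a w (Ne.symm hw)] at h
    exact ⟨_, h.symm⟩
  refine hS.coprime v hv (hdvd.trans (Subgroup.card_dvd_of_le ?_))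
  intro n hn
  exact ⟨(S.mem_kern.mp hn.1).1, (mem_fixingSubgroup_iff G).mp hn.2 v (S.mem a v hv.symm)⟩

end BlockSys

end Cfsg.Agent.PSqOne
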