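import Mathlib
import Cfsg.Agent.Lib.Perm.PSqOne.Structure
import Cfsg.Agent.Lib.Perm.PSqOne.Regular

/-!
# The kernel on the parts and the sets with a common stabiliser
-/

set_option autoImplicit false

open MulAction

namespace Cfsg.Agent.PSqOne

variable {G Ω : Type*} [Group G] [MulAction G Ω] [Finite G] [Fintype Ω] [FaithfulSMul G Ω]
variable {p : ℕ} [Fact p.Prime]

namespace BlockSys

variable {S : BlockSys G Ω p} {a : Ω} {P P₀ : Subgroup G}

/-- The points whose stabiliser in the kernel contains that of `v`. -/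
def Col (S : BlockSys G Ω p) (a v w : Ω) : Prop :=
  w ≠ a ∧ ∀ k ∈ S.kern a, k • v = v → k • w = w

theorem Setup.le₀ (hS : S.Setup a P P₀) : P₀ ≤ P := hS.eq₀ ▸ inf_le_left

theorem Setup.le_kern (hS : S.Setup a P P₀) : P₀ ≤ S.kern a := hS.eq₀ ▸ inf_le_right

theorem Setup.smul_ne (hS : S.Setup a P P₀) {y : G} (hy : y ∈ P) {v : Ω} (hv : v ≠ a) :
    y • v ≠ a := fun h => hv (smul_left_cancel _ (h.trans (hS.le y hy).symm))

/-- An element of `P` fixing a part lies in `P₀`. -/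
theorem mem_P₀_of_part (hS : S.Setup a P P₀) {y : G} (hy : y ∈ P) {v : Ω} (hv : v ≠ a)
    (h : y • v ∈ S.blk a v) : y ∈ P₀ := by
  obtain ⟨x, hx, he⟩ := hS.trans₀ v _ hv h
  have h1 : (x⁻¹ * y) • v = v := by rw [mul_smul, ← he, inv_smul_smul]
  rwa [← inv_mul_eq_one.mp (hS.free _ (P.mul_mem (P.inv_mem (hS.le₀ hx)) hy) v hv h1)]

theorem P₀_conj_of_mem (hS : S.Setup a P P₀) {y x : G} (hy : y ∈ P) (hx : x ∈ P₀) :
    y * x * y⁻¹ = x := by
  rw [hS.comm y hy x (hS.le₀ hx), mul_inv_cancel_right]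

/-- Every element of `P` is a power of a given element outside `P₀` times an element of `P₀`. -/
theorem exists_pow_mul (hS : S.Setup a P P₀) {x : G} (hx : x ∈ P) (hx0 : x ∉ P₀) {z : G}
    (hz : z ∈ P) : ∃ n : ℕ, (x ^ n)⁻¹ * z ∈ P₀ := by
  classical
  have hp : p.Prime := Fact.out
  let M : Subgroup G :=
    { carrier := {w | w ∈ P ∧ ∃ n : ℤ, (x ^ n)⁻¹ * w ∈ P₀}
      one_mem' := ⟨P.one_mem, 0, by simp [P₀.one_mem]⟩
      mul_mem' := by
        rintro u v ⟨hu, m, hm⟩ ⟨hv, n, hn⟩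
        refine ⟨P.mul_mem hu hv, m + n, ?_⟩
        have hc : Commute (x ^ n)⁻¹ u :=
          hS.comm _ (P.inv_mem (P.zpow_mem hx n)) u hu
        have hd : Commute (x ^ n)⁻¹ (x ^ m)⁻¹ := ((Commute.refl x).zpow_zpow n m).inv_inv
        have : (x ^ (m + n))⁻¹ * (u * v) = (x ^ m)⁻¹ * u * ((x ^ n)⁻¹ * v) := by
          rw [zpow_add, mul_inv_rev]
          calc (x ^ n)⁻¹ * (x ^ m)⁻¹ * (u * v) = ((x ^ n)⁻¹ * ((x ^ m)⁻¹ * u)) * v := by group
            _ = ((x ^ m)⁻¹ * u * (x ^ n)⁻¹) * v := by rw [(hd.mul_right hc).eq]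
            _ = _ := by group
        rw [this]; exact P₀.mul_mem hm hn
      inv_mem' := by
        rintro u ⟨hu, m, hm⟩
        refine ⟨P.inv_mem hu, -m, ?_⟩
        have := P₀.inv_mem hm
        rwa [mul_inv_rev, inv_inv, hS.comm _ (P.inv_mem hu) _ (P.zpow_mem hx m),
          show x ^ m = (x ^ (-m))⁻¹ by rw [zpow_neg, inv_inv]] at this }
  have hMP : M ≤ P := fun w hw => hw.1
  have hP0M : P₀ ≤ M := fun w hw => ⟨hS.le₀ hw, 0, by simpa using hw⟩
  have hxM : x ∈ M := ⟨hx, 1, by simp [P₀.one_mem]⟩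
  have hM : M = P := by
    obtain ⟨i, hi2, hi⟩ := (Nat.dvd_prime_pow hp).mp (hS.card ▸ Subgroup.card_dvd_of_le hMP)
    refine Subgroup.eq_of_le_of_card_ge hMP ?_
    rw [hS.card, hi]
    by_contra hlt
    have hi1 : i ≤ 1 := by
      by_contra hi1
      exact hlt (Nat.pow_le_pow_right hp.pos (by omega))
    have heq : P₀ = M := Subgroup.eq_of_le_of_card_ge hP0M (by
      rw [hi, hS.card₀]
      exact (Nat.pow_le_pow_right hp.pos hi1).trans (pow_one p).le)
    exact hx0 (heq ▸ hxM)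
  obtain ⟨-, n, hn⟩ : z ∈ M := hM ▸ hz
  obtain ⟨j, hj⟩ := (isOfFinOrder_of_finite x).mem_powers_iff_mem_zpowers.mpr
    (Subgroup.zpow_mem_zpowers x n)
  exact ⟨j, by rw [show x ^ j = x ^ n from hj]; exact hn⟩

/-- Two kernel stabilisers of which one contains the other are equal. -/
theorem stab_eq (hS : S.Setup a P P₀) {v w : Ω} (hv : v ≠ a) (hw : w ≠ a)
    (h : ∀ k ∈ S.kern a, k • v = v → k • w = w) : ∀ k ∈ S.kern a, k • w = w → k • v = v := by
  let T : Ω → Set G := fun u => {k | k ∈ S.kern a ∧ k • u = u}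
  obtain ⟨y, hy, hyv⟩ := hS.trans v w hv hw
  have himg : (fun k => y * k * y⁻¹) '' T v = T w := by
    ext k
    constructor
    · rintro ⟨k', ⟨hk, hkv⟩, rfl⟩
      refine ⟨S.kern_conj (hS.le y hy) hk, ?_⟩
      rw [← hyv, mul_smul, mul_smul, inv_smul_smul, hkv]
    · rintro ⟨hk, hkw⟩
      refine ⟨y⁻¹ * k * y, ⟨?_, ?_⟩, by group⟩
      · have := S.kern_conj (inv_smul_eq_iff.mpr (hS.le y hy).symm) hk
        rwa [inv_inv] at this
      · rw [mul_smul, mul_smul, hyv, hkw, ← hyv, inv_smul_smul]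
  have heq : T v = T w := by
    refine Set.eq_of_subset_of_ncard_le (fun k hk => ⟨hk.1, h k hk.1 hk.2⟩) ?_
    rw [← himg]
    exact Set.ncard_image_le
  intro k hk hkw
  have : k ∈ T v := heq ▸ ⟨hk, hkw⟩
  exact this.2

/-- If the stabiliser of `v` fixes the image of `v` under `y`, it fixes all images under powers. -/
theorem pow_fix (hS : S.Setup a P P₀) {y : G} (hy : y ∈ P) {v : Ω}
    (h : ∀ k ∈ S.kern a, k • v = v → k • (y • v) = y • v) (n : ℕ) :
    ∀ k ∈ S.kern a, k • v = v → k • (y ^ n • v) = y ^ n • v := by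
  induction n with
  | zero => intro k _ hk; rw [pow_zero, one_smul]; exact hk
  | succ n ih =>
    intro k hk hkv
    have h1 : y⁻¹ * k * y ∈ S.kern a := by
      have := S.kern_conj (inv_smul_eq_iff.mpr (hS.le y hy).symm) hk
      rwa [inv_inv] at this
    have h2 : (y⁻¹ * k * y) • v = v := by
      rw [mul_smul, mul_smul, h k hk hkv, inv_smul_smul]
    have h' := ih _ h1 h2
    rw [mul_smul, mul_smul, inv_smul_eq_iff, ← mul_smul y, ← pow_succ'] at h'
    exact h'

/-- A non-trivial kernel stabiliser fixes one point only in the part. -/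
theorem fix_unique (hS : S.Setup a P P₀) {v w : Ω} (hv : v ≠ a) (hw : w ∈ S.blk a v)
    (hne : ∃ k ∈ S.kern a, k • v = v ∧ k ≠ 1) (h : ∀ k ∈ S.kern a, k • v = v → k • w = w) :
    w = v := by
  by_contra hwv
  obtain ⟨k, hk, hkv, hk1⟩ := hne
  obtain ⟨y, hy, hyw⟩ := hS.trans₀ v w hv hw
  have hy1 : y ≠ 1 := fun he => hwv (by rw [← hyw, he, one_smul])
  refine hk1 (S.kern_faithful hS hv hk fun u hu => ?_)
  obtain ⟨z, hz, rfl⟩ := hS.trans₀ v u hv hu
  obtain ⟨j, hj⟩ := mem_powers_of_prime_card hS.card₀ (g := (⟨y, hy⟩ : P₀)) (g' := ⟨z, hz⟩)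
    (fun he => hy1 (congrArg Subtype.val he))
  rw [← show y ^ j = z from congrArg Subtype.val hj]
  exact pow_fix hS (hS.le₀ hy) (fun k hk hkv => by rw [hyw]; exact h k hk hkv) j k hk hkv

/-- The points with the same stabiliser as `v` meet each part once at most. -/
theorem col_unique (hS : S.Setup a P P₀) {b v w : Ω} (hb : b ≠ a)
    (hne : ∃ k ∈ S.kern a, k • b = b ∧ k ≠ 1) (hv : S.Col a b v) (hw : S.Col a b w)
    (hwv : w ∈ S.blk a v) : w = v := by
  obtain ⟨k, hk, hkb, hk1⟩ := hne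
  exact fix_unique hS hv.1 hwv ⟨k, hk, hv.2 k hk hkb, hk1⟩
    fun l hl hlv => hw.2 l hl (stab_eq hS hb hv.1 hv.2 l hl hlv)

theorem ncard_col_le (hΩ : Fintype.card Ω = p ^ 2 + 1) (hS : S.Setup a P P₀) {b : Ω} (hb : b ≠ a)
    (hne : ∃ k ∈ S.kern a, k • b = b ∧ k ≠ 1) : {w | S.Col a b w}.ncard ≤ p := by
  refine le_trans ?_ (S.card_parts hΩ a).le
  rw [← Nat.card_coe_set_eq]
  refine Nat.card_le_card_of_injective
    (fun w : {w | S.Col a b w} => S.part a w.1 (w.2 : S.Col a b w.1).1) fun u v huv => ?_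
  exact Subtype.ext (col_unique hS hb hne v.2 u.2 ((S.part_eq_iff _ _).mp huv))

/-- The part of `a` seen from `b` cannot consist of points with the stabiliser of `b`. -/
theorem false_of_col (hΩ : Fintype.card Ω = p ^ 2 + 1) (h2 : IsMultiplyPretransitive G Ω 2)
    (hS : S.Setup a P P₀) {b : Ω} (hb : b ≠ a) (hne : ∃ k ∈ S.kern a, k • b = b ∧ k ≠ 1)
    (hY : ∀ y ∈ S.blk b a, y ≠ a → S.Col a b y) : False := by
  classical
  have hp : p.Prime := Fact.out
  have hcolb : S.Col a b b := ⟨hb, fun _ _ h => h⟩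
  have hset : insert b (S.blk b a \ {a}) = {w | S.Col a b w} := by
    refine Set.eq_of_subset_of_ncard_le ?_ ?_
    · rintro w (rfl | hw)
      · exact hcolb
      · exact hY w hw.1 hw.2
    · rw [Set.ncard_insert_of_notMem (fun h => S.notMem b a hb h.1),
        Set.ncard_sdiff (Set.singleton_subset_iff.mpr (S.mem b a hb)), Set.ncard_singleton,
        S.ncard b a hb, Nat.sub_add_cancel hp.one_le]
      exact ncard_col_le hΩ hS hb hne
  have hchar : ∀ w, w ∈ S.blk b a ↔ w = a ∨ (S.Col a b w ∧ w ≠ b) := by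
    intro w
    constructor
    · intro hw
      by_cases hwa : w = a
      · exact Or.inl hwa
      · exact Or.inr ⟨hY w hw hwa, (S.ne_of_mem hb hw).symm⟩
    · rintro (rfl | ⟨hw, hwb⟩)
      · exact S.mem b w hb
      · have : w ∈ insert b (S.blk b a \ {a}) := by rw [hset]; exact hw
        rcases this with h | h
        · exact absurd h hwb
        · exact h.1
  obtain ⟨c, hc, hca, -⟩ := S.exists_asymm hp.two_le hΩ h2 a b hb.symm
  have hcol : S.Col a b c := hY c hc hca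
  have hcb : c ≠ b := (S.ne_of_mem hb hc).symm
  obtain ⟨g, hg, hgb⟩ := hS.trans b c hb hca
  have hga := hS.le g hg
  have hchar' : ∀ w, w ∈ S.blk c a ↔ w = a ∨ (S.Col a b w ∧ w ≠ c) := by
    intro w
    have h := S.smul_mem g b a (g⁻¹ • w) hb
    rw [hgb, hga, smul_inv_smul] at h
    rw [h, hchar]
    have e1 : g⁻¹ • w = a ↔ w = a := by rw [inv_smul_eq_iff, hga]
    have e2 : g⁻¹ • w ≠ b ↔ w ≠ c := not_congr (by rw [inv_smul_eq_iff, hgb])
    have e3 : S.Col a b (g⁻¹ • w) ↔ S.Col a b w := by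
      constructor
      · rintro ⟨h1, h2⟩
        refine ⟨fun h => h1 (by rw [h, inv_smul_eq_iff, hga]), fun k hk hkb => ?_⟩
        have hk' : g⁻¹ * k * g ∈ S.kern a := by
          have := S.kern_conj (inv_smul_eq_iff.mpr hga.symm) hk
          rwa [inv_inv] at this
        have := h2 _ hk' (by rw [mul_smul, mul_smul, hgb, hcol.2 k hk hkb, ← hgb, inv_smul_smul])
        rwa [mul_smul, mul_smul, smul_inv_smul, smul_left_cancel_iff] at this
      · rintro ⟨h1, h2⟩
        refine ⟨fun h => h1 (by rw [← smul_inv_smul g w, h, hga]), fun k hk hkb => ?_⟩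
        have hk' : g * k * g⁻¹ ∈ S.kern a := S.kern_conj hga hk
        have hfix : (g * k * g⁻¹) • c = c := by
          rw [← hgb, mul_smul, mul_smul, inv_smul_smul, hkb]
        have := h2 _ hk' (stab_eq hS hb hca hcol.2 _ hk' hfix)
        rw [mul_smul, mul_smul] at this
        exact smul_left_cancel g (this.trans (smul_inv_smul g w).symm)
    rw [e1, e2, e3]
  obtain ⟨w, hw, hwc, hw'⟩ := S.exists_asymm hp.two_le hΩ h2 c b hcb
  rw [S.eq_of_mem b a c hb hc] at hw
  rw [S.eq_of_mem c a b hca ((hchar' b).mpr (Or.inr ⟨hcolb, hcb.symm⟩))] at hw'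
  refine hw' ((hchar' w).mpr ?_)
  rcases (hchar w).mp hw with h | h
  · exact Or.inl h
  · exact Or.inr ⟨h.1, hwc⟩

/-- The stabiliser of `a` is the product of `P` and the stabiliser of two points. -/
theorem card_stab (hS : S.Setup a P P₀) {b : Ω} (hb : b ≠ a) :
    Nat.card (stabilizer G a) =
      Nat.card P * Nat.card (stabilizer G a ⊓ stabilizer G b : Subgroup G) := by
  rw [← Nat.card_prod]
  symm
  refine Nat.card_eq_of_bijective
    (fun z : P × (stabilizer G a ⊓ stabilizer G b : Subgroup G) =>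
      (⟨(z.1 : G) * z.2, (stabilizer G a).mul_mem (hS.le z.1 z.1.2) z.2.2.1⟩ : stabilizer G a))
    ⟨?_, ?_⟩
  · rintro ⟨y, l⟩ ⟨y', l'⟩ he
    have he' : (y : G) * l = y' * l' := congrArg Subtype.val he
    have hy : y = y' := by
      refine Subtype.ext (inv_mul_eq_one.mp (hS.free _ (P.mul_mem (P.inv_mem y.2) y'.2) b hb ?_))
      have h := congrArg (fun g : G => g • b) he'
      simp only [mul_smul, show (l : G) • b = b from l.2.2, show (l' : G) • b = b from l'.2.2] at h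
      rw [mul_smul, ← h, inv_smul_smul]
    subst hy
    exact Prod.ext rfl (Subtype.ext (mul_left_cancel he'))
  · rintro ⟨g, hg⟩
    have hne : g • b ≠ a := fun h => hb (smul_left_cancel _ (h.trans hg.symm))
    obtain ⟨y, hy, he⟩ := hS.trans b (g • b) hb hne
    refine ⟨⟨⟨y, hy⟩, ⟨y⁻¹ * g, ?_, ?_⟩⟩, Subtype.ext (mul_inv_cancel_left y g)⟩
    · exact (stabilizer G a).mul_mem ((stabilizer G a).inv_mem (hS.le y hy)) hg
    · show (y⁻¹ * g) • b = b
      rw [mul_smul, ← he, inv_smul_smul]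

/-- The case with `P` normal. -/
theorem false_of_normal (hp2 : p ≠ 2) (hΩ : Fintype.card Ω = p ^ 2 + 1)
    (h2 : IsMultiplyPretransitive G Ω 2) [DecidableEq Ω]
    (heven : ∀ g : G, Equiv.Perm.sign (MulAction.toPerm g : Equiv.Perm Ω) = 1)
    (hS : S.Setup a P P₀) {b : Ω} (hb : b ≠ a)
    (hP₀n : ∀ g : G, g • a = a → ∀ h ∈ P₀, g * h * g⁻¹ ∈ P₀)
    (hPn : ∀ g : G, g • a = a → ∀ h ∈ P, g * h * g⁻¹ ∈ P) : False :=
  false_of_regular hp2 hΩ h2 heven a b hb.symm P P₀ hS.card hS.le hS.comm hPn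
    (fun v hv => hS.trans b v hb hv) hS.le₀ hS.card₀ hP₀n (hS.coprime b hb)

/-- The case with `P₀` normal and the image of `P` on the parts normal. -/
theorem false_of_translations (hp2 : p ≠ 2) (hΩ : Fintype.card Ω = p ^ 2 + 1)
    (h2 : IsMultiplyPretransitive G Ω 2) [DecidableEq Ω]
    (heven : ∀ g : G, Equiv.Perm.sign (MulAction.toPerm g : Equiv.Perm Ω) = 1)
    (hS : S.Setup a P P₀) {b : Ω} (hb : b ≠ a)
    (hP₀n : ∀ g : G, g • a = a → ∀ h ∈ P₀, g * h * g⁻¹ ∈ P₀)
    (hT : ∀ g : G, g • a = a → ∀ y ∈ P, ∃ y' ∈ P, y'⁻¹ * (g * y * g⁻¹) ∈ S.kern a) : False := by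
  refine false_of_normal hp2 hΩ h2 heven hS hb hP₀n fun g hg y hy => ?_
  obtain ⟨y', hy', hw⟩ := hT g hg y hy
  set w := y'⁻¹ * (g * y * g⁻¹) with hwdef
  have hcent : ∀ h ∈ P₀, w * h = h * w := by
    intro h hh
    have e1 : g⁻¹ * h * g ∈ P₀ := by
      have := hP₀n g⁻¹ (inv_smul_eq_iff.mpr hg.symm) h hh
      rwa [inv_inv] at this
    have e2 : g * y * g⁻¹ * h = h * (g * y * g⁻¹) := by
      calc g * y * g⁻¹ * h = g * (y * (g⁻¹ * h * g)) * g⁻¹ := by group
        _ = g * ((g⁻¹ * h * g) * y) * g⁻¹ := by rw [hS.comm y hy _ (hS.le₀ e1)]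
        _ = _ := by group
    have e3 : y'⁻¹ * h = h * y'⁻¹ := hS.comm _ (P.inv_mem hy') h (hS.le₀ hh)
    rw [hwdef, mul_assoc, e2, ← mul_assoc, e3, mul_assoc]
  obtain ⟨h, hh, hhb⟩ := hS.trans₀ b (w • b) hb ((S.mem_kern.mp hw).2 b hb)
  have hwh : h⁻¹ * w = 1 := by
    refine S.kern_faithful hS hb ((S.kern a).mul_mem ((S.kern a).inv_mem (hS.le_kern hh)) hw) ?_
    intro u hu
    obtain ⟨x, hx, rfl⟩ := hS.trans₀ b u hb hu
    rw [mul_smul, ← mul_smul w, hcent x hx, mul_smul, ← hhb, inv_smul_eq_iff, ← mul_smul, ← mul_smul,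
      hS.comm x (hS.le₀ hx) h (hS.le₀ hh)]
  rw [inv_mul_eq_one] at hwh
  have : g * y * g⁻¹ = y' * h := by rw [hwh, hwdef, mul_inv_cancel_left]
  rw [this]
  exact P.mul_mem hy' (hS.le₀ hh)

/-- The case where the stabiliser of two points is transitive on the other parts. -/
theorem false_of_parts_transitive (hp2 : p ≠ 2) (hΩ : Fintype.card Ω = p ^ 2 + 1)
    (h2 : IsMultiplyPretransitive G Ω 2) [DecidableEq Ω]
    (heven : ∀ g : G, Equiv.Perm.sign (MulAction.toPerm g : Equiv.Perm Ω) = 1)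
    (hS : S.Setup a P P₀) {b : Ω} (hb : b ≠ a)
    (hI : ∀ v w : Ω, v ≠ a → v ∉ S.blk a b → w ≠ a → w ∉ S.blk a b →
      ∃ g : G, g • a = a ∧ g • b = b ∧ g • v ∈ S.blk a w) : False := by
  classical
  have hp : p.Prime := Fact.out
  obtain ⟨c, hc, hca, hcout⟩ := S.exists_asymm hp.two_le hΩ h2 a b hb.symm
  have hstabY : ∀ g : G, g • a = a → g • b = b → ∀ y ∈ S.blk b a, y ≠ a →
      g • y ∈ S.blk b a ∧ g • y ≠ a := by
    intro g hga hgb y hy hya
    have := (S.smul_mem g b a y hb).mpr hy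
    rw [hgb, hga] at this
    exact ⟨this, fun h => hya (smul_left_cancel _ (h.trans hga.symm))⟩
  -- one point of the part of `a` seen from `b` in every other part
  let Y : Set Ω := S.blk b a \ {a}
  have hpick : ∀ T : {T : S.Parts a // T ≠ S.part a b hb}, ∃ y ∈ Y, S.blk a y = T.1.1 := by
    rintro ⟨⟨T, v, hv, rfl⟩, hT⟩
    have hvout : v ∉ S.blk a b := fun h => hT ((S.part_eq_iff hv hb).mpr h)
    obtain ⟨g, hga, hgb, hgv⟩ := hI c v hca hcout hv hvout
    exact ⟨g • c, hstabY g hga hgb c hc hca, S.eq_of_mem a v _ hv.symm hgv⟩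
  choose f hfY hf using hpick
  have hfinj : Function.Injective f := fun T T' he => Subtype.ext (Subtype.ext
    (by rw [← hf T, ← hf T', he]))
  have hYrange : ∀ y ∈ Y, ∃ T, f T = y := by
    have hle : Set.range f = Y := by
      refine Set.eq_of_subset_of_ncard_le (Set.range_subset_iff.mpr hfY) ?_
      rw [Set.ncard_sdiff (Set.singleton_subset_iff.mpr (S.mem b a hb)), Set.ncard_singleton,
        S.ncard b a hb, ← Nat.card_coe_set_eq, Nat.card_range_of_injective hfinj]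
      haveI := Fintype.ofFinite (S.Parts a)
      rw [Nat.card_eq_fintype_card, Fintype.card_subtype_compl, Fintype.card_subtype_eq,
        ← Nat.card_eq_fintype_card, S.card_parts hΩ a]
    intro y hy
    rw [← hle] at hy
    exact hy
  have huniq : ∀ y ∈ Y, ∀ y' ∈ Y, y' ∈ S.blk a y → y' = y := by
    intro y hy y' hy' h
    obtain ⟨T, rfl⟩ := hYrange y hy
    obtain ⟨T', rfl⟩ := hYrange y' hy'
    refine congrArg f (Subtype.ext (Subtype.ext ?_))
    rw [← hf T, ← hf T', S.eq_of_mem a _ _ (Ne.symm (hfY T).2) h]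
  have hout : ∀ y ∈ Y, y ∉ S.blk a b := by
    intro y hy h
    obtain ⟨T, rfl⟩ := hYrange y hy
    exact T.2 (Subtype.ext ((hf T).symm.trans (S.eq_of_mem a b _ hb.symm h)))
  have hK : ∀ k ∈ S.kern a, k • b = b → ∀ y ∈ Y, k • y = y := by
    intro k hk hkb y hy
    obtain ⟨hka, hkv⟩ := S.mem_kern.mp hk
    exact huniq y hy _ (hstabY k hka hkb y hy.1 hy.2) (hkv y hy.2)
  by_cases hne : ∃ k ∈ S.kern a, k • b = b ∧ k ≠ 1
  · exact false_of_col hΩ h2 hS hb hne fun y hy hya =>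
      ⟨hya, fun k hk hkb => hK k hk hkb y ⟨hy, hya⟩⟩
  push Not at hne
  have hKP : S.kern a = P₀ := by
    refine le_antisymm (fun k hk => ?_) hS.le_kern
    obtain ⟨x, hx, hxb⟩ := hS.trans₀ b (k • b) hb ((S.mem_kern.mp hk).2 b hb)
    have := hne (x⁻¹ * k) ((S.kern a).mul_mem ((S.kern a).inv_mem (hS.le_kern hx)) hk)
      (by rw [mul_smul, ← hxb, inv_smul_smul])
    rwa [← inv_mul_eq_one.mp this]
  have hP₀n : ∀ g : G, g • a = a → ∀ h ∈ P₀, g * h * g⁻¹ ∈ P₀ := fun g hg h hh => by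
    rw [← hKP] at hh ⊢; exact S.kern_conj hg hh
  -- semiregularity on the part of `b`
  have hsemi : ∀ l : G, l • a = a → l • b = b → ∀ x ∈ S.blk a b, x ≠ b → l • x = x →
      ∀ u ∈ S.blk a b, l • u = u := by
    intro l hla hlb x hx hxb hlx u hu
    obtain ⟨y, hy, hyx⟩ := hS.trans₀ b x hb hx
    have hy1 : y ≠ 1 := fun he => hxb (by rw [← hyx, he, one_smul])
    have hly : l * y * l⁻¹ = y := by
      have h1 : (y⁻¹ * (l * y * l⁻¹)) • b = b := by
        rw [mul_smul, mul_smul, mul_smul, inv_smul_eq_iff.mpr hlb.symm, hyx, hlx, ← hyx,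
          inv_smul_smul]
      have h2 := hne _ ((S.kern a).mul_mem ((S.kern a).inv_mem (hS.le_kern hy))
        (S.kern_conj hla (hS.le_kern hy))) h1
      exact (inv_mul_eq_one.mp h2).symm
    obtain ⟨z, hz, rfl⟩ := hS.trans₀ b u hb hu
    obtain ⟨j, hj⟩ := mem_powers_of_prime_card hS.card₀ (g := (⟨y, hy⟩ : P₀)) (g' := ⟨z, hz⟩)
      (fun he => hy1 (congrArg Subtype.val he))
    rw [← show y ^ j = z from congrArg Subtype.val hj, ← mul_smul,
      ((show Commute l y from mul_inv_eq_iff_eq_mul.mp hly).pow_right j).eq, mul_smul, hlb]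
  obtain ⟨s, hsa, hsb⟩ := is_two_pretransitive_iff.mp h2 hb.symm hb
  have hfree : ∀ l : G, l • a = a → l • b = b → l • c = c → l = 1 := by
    intro l hla hlb hlc
    have hl'a : (s * l * s⁻¹) • a = a := by
      conv_lhs => rw [← hsb]
      rw [mul_smul, mul_smul, inv_smul_smul, hlb, hsb]
    have hl'b : (s * l * s⁻¹) • b = b := by
      conv_lhs => rw [← hsa]
      rw [mul_smul, mul_smul, inv_smul_smul, hla, hsa]
    have hmem : ∀ u, u ∈ S.blk b a → s • u ∈ S.blk a b := by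
      intro u hu
      have := (S.smul_mem s b a u hb).mpr hu
      rwa [hsa, hsb] at this
    have hfix := hsemi _ hl'a hl'b (s • c) (hmem c hc)
      (fun h => hca (smul_left_cancel s (h.trans hsa.symm)))
      (by rw [mul_smul, mul_smul, inv_smul_smul, hlc])
    have hY : ∀ y ∈ Y, l • y = y := by
      intro y hy
      have := hfix (s • y) (hmem y hy.1)
      rwa [mul_smul, mul_smul, inv_smul_smul, smul_left_cancel_iff] at this
    refine hne l (S.mem_kern.mpr ⟨hla, fun v hv => ?_⟩) hlb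
    by_cases hvb : v ∈ S.blk a b
    · have h1 := (S.smul_mem l a b v hb.symm).mpr hvb
      rw [hla, hlb] at h1
      rw [S.eq_of_mem a b v hb.symm hvb]
      exact h1
    · obtain ⟨g, hga, hgb, hgv⟩ := hI c v hca hcout hv hvb
      have hgY : g • c ∈ Y := hstabY g hga hgb c hc hca
      have hva : v ∈ S.blk a (g • c) := S.symm hv.symm hgv
      have h1 := (S.smul_mem l a (g • c) v (Ne.symm hgY.2)).mpr hva
      rw [hla, hY _ hgY] at h1
      rwa [S.eq_of_mem a v _ hv.symm hgv] at h1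
  set L : Subgroup G := stabilizer G a ⊓ stabilizer G b with hL
  have hLle : Nat.card L ≤ p - 1 := by
    have hYc : Y.ncard = p - 1 := by
      rw [Set.ncard_sdiff (Set.singleton_subset_iff.mpr (S.mem b a hb)), Set.ncard_singleton,
        S.ncard b a hb]
    rw [← hYc, ← Nat.card_coe_set_eq]
    refine Nat.card_le_card_of_injective
      (fun l : L => (⟨(l : G) • c, hstabY l l.2.1 l.2.2 c hc hca⟩ : Y)) fun l l' he => ?_
    have he' : (l : G) • c = (l' : G) • c := congrArg Subtype.val he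
    refine Subtype.ext (inv_mul_eq_one.mp (hfree ((l : G)⁻¹ * l') ?_ ?_ ?_))
    · exact (L.mul_mem (L.inv_mem l.2) l'.2).1
    · exact (L.mul_mem (L.inv_mem l.2) l'.2).2
    · rw [mul_smul, ← he', inv_smul_smul]
  -- `P` is the only Sylow subgroup of the stabiliser
  have hPA : P ≤ stabilizer G a := hS.le
  let P' : Subgroup (stabilizer G a) := P.subgroupOf (stabilizer G a)
  have hP'c : Nat.card P' = p ^ 2 := by
    rw [Nat.card_congr (Subgroup.subgroupOfEquivOfLe hPA).toEquiv, hS.card]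
  have hidx : P'.index = Nat.card L := by
    have h := P'.card_mul_index
    rw [hP'c, card_stab hS hb, hS.card] at h
    exact Nat.eq_of_mul_eq_mul_left (pow_pos hp.pos 2) h
  have hP'p : IsPGroup p P' := IsPGroup.of_card hP'c
  let Q : Sylow p (stabilizer G a) := hP'p.toSylow (by rw [hidx]; exact hS.coprime b hb)
  have hn1 : Nat.card (Sylow p (stabilizer G a)) = 1 := by
    have h1 : Nat.card (Sylow p (stabilizer G a)) ≤ p - 1 := by
      refine le_trans ?_ hLle
      refine Nat.le_of_dvd Nat.card_pos ?_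
      have := Q.card_dvd_index
      rwa [show (Q : Subgroup (stabilizer G a)) = P' from rfl, hidx] at this
    have h2 := card_sylow_modEq_one p (stabilizer G a)
    unfold Nat.ModEq at h2
    rwa [Nat.mod_eq_of_lt (by have := hp.two_le; omega), Nat.mod_eq_of_lt hp.one_lt] at h2
  haveI : Subsingleton (Sylow p (stabilizer G a)) := (Nat.card_eq_one_iff_unique.mp hn1).1
  haveI hnorm : P'.Normal := Sylow.normal_of_subsingleton Q
  refine false_of_normal hp2 hΩ h2 heven hS hb hP₀n fun g hg h hh => ?_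
  have := hnorm.conj_mem ⟨h, hS.le h hh⟩ (Subgroup.mem_subgroupOf.mpr hh) ⟨g, hg⟩
  rwa [Subgroup.mem_subgroupOf] at this

end BlockSys

end Cfsg.Agent.PSqOne
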