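import Mathlib

/-!
# Subsets of `ZMod p` with almost uniform `p`-fold sums

If the number of `p`-tuples from `E ⊆ ZMod p` with sum `t` does not depend on `t ≠ t₀`, then `E`
is a point or the complement of a point.
-/

set_option autoImplicit false

open Polynomial

namespace Cfsg.Agent.PSqOne

variable {p : ℕ} [Fact p.Prime]

/-- A rational function on `ZMod p` whose sum against a primitive `p`-th root vanishes is
constant. -/
theorem const_of_sum_root_eq_zero {ζ : ℂ} (hζ : IsPrimitiveRoot ζ p) (f : ZMod p → ℚ)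
    (h : ∑ t : ZMod p, (f t : ℂ) * ζ ^ t.val = 0) : ∀ s t, f s = f t := by
  classical
  have hp : p.Prime := Fact.out
  let Q : ℚ[X] := ∑ t : ZMod p, C (f t) * X ^ t.val
  have hQ : aeval ζ Q = 0 := by
    simp only [Q, map_sum, map_mul, aeval_C, map_pow, aeval_X]
    simpa using h
  have hdvd : cyclotomic p ℚ ∣ Q := by
    rw [cyclotomic_eq_minpoly_rat hζ hp.pos]
    exact minpoly.dvd ℚ ζ hQ
  obtain ⟨R, hR⟩ := hdvd
  have hdQ : Q.natDegree ≤ p - 1 := by
    refine natDegree_sum_le_of_forall_le _ _ fun t _ => ?_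
    refine (natDegree_C_mul_le _ _).trans ?_
    rw [natDegree_X_pow]
    have := ZMod.val_lt t
    omega
  have hcoef : ∀ t : ZMod p, Q.coeff t.val = f t := by
    intro t
    simp only [Q, finset_sum_coeff, coeff_C_mul, coeff_X_pow]
    rw [Finset.sum_eq_single t]
    · simp
    · intro b _ hb
      rw [if_neg fun he => hb (ZMod.val_injective p he).symm, mul_zero]
    · simp
  intro s t
  by_cases hR0 : R = 0
  · rw [← hcoef s, ← hcoef t, hR, hR0, mul_zero, coeff_zero, coeff_zero]
  have hcd : (cyclotomic p ℚ).natDegree = p - 1 := by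
    rw [natDegree_cyclotomic, Nat.totient_prime hp]
  have hRd : R.natDegree = 0 := by
    have h1 := congrArg natDegree hR
    rw [natDegree_mul (cyclotomic_ne_zero p ℚ) hR0, hcd] at h1
    omega
  have hconst : ∀ t : ZMod p, Q.coeff t.val = R.coeff 0 := by
    intro t
    rw [hR, eq_C_of_natDegree_eq_zero hRd, coeff_mul_C, coeff_C_zero, cyclotomic_prime,
      finset_sum_coeff, Finset.sum_eq_single t.val]
    · simp
    · intro b _ hb
      rw [coeff_X_pow, if_neg hb.symm]
    · exact fun hh => absurd (Finset.mem_range.mpr (ZMod.val_lt t)) hh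
  rw [← hcoef s, ← hcoef t, hconst s, hconst t]

/-- The number of `p`-tuples from `E` with sum `t`. -/
noncomputable def sumCount (E : Finset (ZMod p)) (t : ZMod p) : ℕ :=
  Nat.card {f : Fin p → E // ∑ i, ((f i : E) : ZMod p) = t}

theorem sum_tuples {R : Type*} [AddCommMonoid R] (E : Finset (ZMod p)) (F : ZMod p → R) :
    ∑ f : Fin p → E, F (∑ i, ((f i : E) : ZMod p)) = ∑ t, sumCount E t • F t := by
  classical
  rw [← Finset.sum_fiberwise Finset.univ (fun f : Fin p → E => ∑ i, ((f i : E) : ZMod p))]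
  refine Finset.sum_congr rfl fun t _ => ?_
  rw [Finset.sum_congr rfl (g := fun _ => F t) fun f hf => by rw [(Finset.mem_filter.mp hf).2],
    Finset.sum_const, sumCount, Nat.card_eq_fintype_card, Fintype.card_subtype]

/-- Modulo `p` the only sum is `0`. -/
theorem sumCount_cast (E : Finset (ZMod p)) (t : ZMod p) :
    (sumCount E t : ZMod p) = if t = 0 then (E.card : ZMod p) else 0 := by
  classical
  let e : ZMod p → AddMonoidAlgebra (ZMod p) (ZMod p) := fun a => AddMonoidAlgebra.single a 1
  have he : ∀ g : Fin p → ZMod p, ∏ i, e (g i) = e (∑ i, g i) := by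
    intro g
    simp only [e, AddMonoidAlgebra.prod_single, Finset.prod_const_one]
  haveI : CharP (AddMonoidAlgebra (ZMod p) (ZMod p)) p :=
    charP_of_injective_algebraMap
      (algebraMap (ZMod p) (AddMonoidAlgebra (ZMod p) (ZMod p))).injective p
  have hL : (∑ a : E, e a) ^ p = ∑ s, sumCount E s • e s := by
    rw [Fintype.sum_pow, ← sum_tuples E e]
    exact Finset.sum_congr rfl fun f _ => he _
  have hR : (∑ a : E, e a) ^ p = E.card • e 0 := by
    rw [sum_pow_char]
    have : ∀ a : E, e a ^ p = e 0 := fun a => by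
      simp only [e, AddMonoidAlgebra.single_pow, one_pow, nsmul_eq_mul, CharP.cast_eq_zero,
        zero_mul]
    rw [Finset.sum_congr rfl fun a _ => this a, Finset.sum_const, Finset.card_univ,
      Fintype.card_coe]
  have h := congrArg (fun x : AddMonoidAlgebra (ZMod p) (ZMod p) => x.coeff t) (hL.symm.trans hR)
  simp only [e, AddMonoidAlgebra.smul_single, AddMonoidAlgebra.coeff_sum, Finsupp.finsetSum_apply, AddMonoidAlgebra.coeff_single,
    Finsupp.single_apply, nsmul_eq_mul, mul_one] at h
  rw [Finset.sum_eq_single t (fun b _ hb => if_neg hb) (by simp)] at h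
  simpa [eq_comm] using h

/-- The main lemma. -/
theorem card_of_uniform_sums (hp2 : p ≠ 2) (E : Finset (ZMod p)) (hE : E.Nonempty)
    (hEu : E.card < p) (t₀ : ZMod p)
    (h : ∀ s t, s ≠ t₀ → t ≠ t₀ → sumCount E s = sumCount E t) :
    E.card = 1 ∨ E.card = p - 1 := by
  classical
  have hp : p.Prime := Fact.out
  have hd : (E.card : ZMod p) ≠ 0 := by
    rw [Ne, CharP.cast_eq_zero_iff (ZMod p) p]
    exact fun hh => absurd (Nat.le_of_dvd hE.card_pos hh) (by omega)
  have h3 : ∃ s : ZMod p, s ≠ 0 ∧ s ≠ t₀ := by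
    by_contra hh
    push Not at hh
    have hsub : (Finset.univ : Finset (ZMod p)) ⊆ {0, t₀} := fun s _ => by
      by_cases hs : s = 0
      · simp [hs]
      · simp [hh s hs]
    have := (Finset.card_le_card hsub).trans Finset.card_le_two
    rw [Finset.card_univ, ZMod.card] at this
    have := hp.two_le
    omega
  obtain ⟨s₀, hs0, hst⟩ := h3
  have ht₀ : t₀ = 0 := by
    by_contra hne
    have h1 := congrArg (fun n : ℕ => (n : ZMod p)) (h 0 s₀ (Ne.symm hne) hst)
    simp only [sumCount_cast, if_pos, if_neg hs0] at h1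
    exact hd h1
  subst ht₀
  set β : ℕ := sumCount E s₀ with hβ
  have hζ : IsPrimitiveRoot (Complex.exp (2 * Real.pi * Complex.I / (p : ℕ))) p :=
    Complex.isPrimitiveRoot_exp p hp.ne_zero
  set ζ := Complex.exp (2 * Real.pi * Complex.I / (p : ℕ))
  have hpow : ∀ n : ℕ, ζ ^ n = ζ ^ (n : ZMod p).val := fun n => by
    rw [ZMod.val_natCast, ← hζ.eq_orderOf.symm.subst (motive := fun q => ζ ^ (n % q) = ζ ^ n)
      (pow_mod_orderOf ζ n)]
  let χ : ZMod p → ℂ := fun t => ζ ^ t.val
  have hχadd : ∀ s t, χ (s + t) = χ s * χ t := fun s t => by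
    simp only [χ]
    rw [← pow_add, hpow (s.val + t.val), Nat.cast_add, ZMod.natCast_zmod_val,
      ZMod.natCast_zmod_val]
  have hχ0 : χ 0 = 1 := by simp [χ]
  have hχprod : ∀ g : Fin p → ZMod p, ∏ i, χ (g i) = χ (∑ i, g i) := fun g => by
    induction' (Finset.univ : Finset (Fin p)) using Finset.induction_on with i S hi ih
    · simp [hχ0]
    · rw [Finset.prod_insert hi, Finset.sum_insert hi, ih, hχadd]
  have hχsum : ∀ g : ZMod p, g ≠ 0 → ∑ t, χ (g * t) = 0 := by
    intro g hg
    rw [show ∑ t, χ (g * t) = ∑ t, χ t from Equiv.sum_comp (Equiv.mulLeft₀ g hg) χ]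
    have h1 := hζ.geom_sum_eq_zero hp.one_lt
    rw [← h1]
    exact (Finset.sum_nbij (fun t => t.val) (fun t _ => Finset.mem_range.mpr (ZMod.val_lt t))
      (fun a _ b _ hab => ZMod.val_injective p hab)
      (fun b hb => ⟨(b : ZMod p), Finset.mem_univ _,
        ZMod.val_natCast_of_lt (Finset.mem_range.mp hb)⟩) (fun t _ => rfl))
  let z : ZMod p → ℂ := fun g => ∑ a : E, χ (g * a)
  have hzp : ∀ g : ZMod p, g ≠ 0 → z g ^ p = (sumCount E 0 : ℂ) - β := by
    intro g hg
    have h1 : z g ^ p = ∑ t, sumCount E t • χ (g * t) := by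
      rw [Fintype.sum_pow, ← sum_tuples E (fun t => χ (g * t))]
      refine Finset.sum_congr rfl fun f _ => ?_
      rw [hχprod, Finset.mul_sum]
    have h2 : ∀ t, sumCount E t • χ (g * t) =
        (β : ℂ) * χ (g * t) + if t = 0 then ((sumCount E 0 : ℂ) - β) else 0 := by
      intro t
      by_cases ht : t = 0
      · subst ht; rw [if_pos rfl, mul_zero, hχ0, nsmul_eq_mul]; ring
      · rw [if_neg ht, add_zero, h t s₀ ht hst, nsmul_eq_mul]
    rw [h1, Finset.sum_congr rfl fun t _ => h2 t, Finset.sum_add_distrib, ← Finset.mul_sum,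
      hχsum g hg, mul_zero, zero_add, Finset.sum_ite_eq', if_pos (Finset.mem_univ _)]
  have hind : ∀ (c g : ZMod p), g ≠ 0 → ∑ t, (if g⁻¹ * (t - c) ∈ E then (1 : ℂ) else 0) * χ t =
      χ c * z g := by
    intro c g hg
    rw [← Equiv.sum_comp ((Equiv.mulLeft₀ g hg).trans (Equiv.addRight c))]
    show ∑ s, (if g⁻¹ * (g * s + c - c) ∈ E then (1 : ℂ) else 0) * χ (g * s + c) = _
    simp only [add_sub_cancel_right, inv_mul_cancel_left₀ hg, ite_mul, one_mul, zero_mul]
    rw [Finset.sum_ite_mem, Finset.univ_inter, Finset.mul_sum, ← Finset.sum_coe_sort E]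
    refine Finset.sum_congr rfl fun a _ => ?_
    rw [hχadd, mul_comm]
  have hz1 : z 1 ≠ 0 := by
    intro hz
    have h1 := hind 0 1 one_ne_zero
    rw [hz, mul_zero] at h1
    have hconst := const_of_sum_root_eq_zero hζ (fun t => if t ∈ E then 1 else 0) (by
      rw [← h1]; refine Finset.sum_congr rfl fun t _ => ?_
      simp only [inv_one, one_mul, sub_zero]
      split_ifs <;> simp [χ])
    obtain ⟨e, he⟩ := hE
    obtain ⟨u, hu⟩ : ∃ u, u ∉ E := by
      by_contra hh
      push Not at hh
      rw [Finset.eq_univ_of_forall hh, Finset.card_univ, ZMod.card] at hEu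
      omega
    have := hconst e u
    simp [he, hu] at this
  have hshift : ∀ g : ZMod p, g ≠ 0 → ∃ c : ZMod p, ∀ t, g⁻¹ * t ∈ E ↔ t - c ∈ E := by
    intro g hg
    have h1 : (z g / z 1) ^ p = 1 := by
      rw [div_pow, hzp g hg, ← hzp 1 one_ne_zero, div_self (pow_ne_zero _ hz1)]
    obtain ⟨n, hn, hnz⟩ := hζ.eq_pow_of_pow_eq_one h1
    refine ⟨(n : ZMod p), fun t => ?_⟩
    have hzg : χ 0 * z g = χ (n : ZMod p) * z 1 := by
      simp only [χ]
      rw [← hpow, hnz, div_mul_cancel₀ _ hz1]
      simp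
    rw [← hind 0 g hg, ← hind (n : ZMod p) 1 one_ne_zero] at hzg
    let F : ZMod p → ℚ := fun s => (if g⁻¹ * (s - 0) ∈ E then (1 : ℚ) else 0) -
      (if (1 : ZMod p)⁻¹ * (s - n) ∈ E then 1 else 0)
    have hF0 : ∑ s, (F s : ℂ) * ζ ^ s.val = 0 := by
      rw [← sub_eq_zero.mpr hzg, ← Finset.sum_sub_distrib]
      refine Finset.sum_congr rfl fun s _ => ?_
      simp only [F, χ]
      split_ifs <;> simp <;> ring
    have hc := const_of_sum_root_eq_zero hζ F hF0
    have hsum : ∑ s, F s = 0 := by
      simp only [F, Finset.sum_sub_distrib, sub_zero, inv_one, one_mul]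
      have e1 : ∑ s, (if g⁻¹ * (g * s) ∈ E then (1 : ℚ) else 0) = ∑ s, if g⁻¹ * s ∈ E then (1 : ℚ) else 0 :=
        Equiv.sum_comp (Equiv.mulLeft₀ g hg) (fun s => if g⁻¹ * s ∈ E then (1 : ℚ) else 0)
      have e2 : ∑ s, (if s + (n : ZMod p) - (n : ZMod p) ∈ E then (1 : ℚ) else 0) =
          ∑ s, if s - (n : ZMod p) ∈ E then (1 : ℚ) else 0 :=
        Equiv.sum_comp (Equiv.addRight (n : ZMod p))
          (fun s => if s - (n : ZMod p) ∈ E then (1 : ℚ) else 0)
      simp only [inv_mul_cancel_left₀ hg] at e1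
      simp only [add_sub_cancel_right] at e2
      rw [← e1, ← e2, sub_self]
    rw [Finset.sum_congr rfl fun s _ => hc s t, Finset.sum_const, Finset.card_univ, ZMod.card,
      nsmul_eq_mul, mul_eq_zero] at hsum
    rcases hsum with h' | h'
    · exact absurd (Nat.cast_eq_zero.mp h') hp.ne_zero
    simp only [F, sub_zero, inv_one, one_mul] at h'
    split_ifs at h' <;> simp_all
  set m : ZMod p := (E.card : ZMod p)⁻¹ * ∑ a ∈ E, a with hm
  have hEinv : ∀ g : ZMod p, g ≠ 0 → ∀ e ∈ E, m + g * (e - m) ∈ E := by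
    intro g hg
    obtain ⟨c, hc⟩ := hshift g hg
    have himg : E.image (fun e => g * e - c) = E := by
      refine Finset.eq_of_subset_of_card_le (fun x hx => ?_) ?_
      · obtain ⟨e, he, rfl⟩ := Finset.mem_image.mp hx
        exact (hc _).mp (by rwa [inv_mul_cancel_left₀ hg])
      · rw [Finset.card_image_of_injective _ fun a b hab =>
          mul_left_cancel₀ hg (sub_left_injective hab)]
    have hcm : g * m - c = m := by
      have h1 := congrArg (fun S : Finset (ZMod p) => ∑ a ∈ S, a) himg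
      rw [Finset.sum_image (fun a _ b _ hab => mul_left_cancel₀ hg (sub_left_injective hab)),
        Finset.sum_sub_distrib, ← Finset.mul_sum, Finset.sum_const, nsmul_eq_mul] at h1
      rw [hm]
      have : (E.card : ZMod p)⁻¹ * (g * ∑ a ∈ E, a - (E.card : ZMod p) * c) =
          (E.card : ZMod p)⁻¹ * ∑ a ∈ E, a := by rw [h1]
      rw [mul_sub, inv_mul_cancel_left₀ hd] at this
      linear_combination this
    intro e he
    have : g * e - c ∈ E := himg ▸ Finset.mem_image_of_mem _ he
    convert this using 1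
    linear_combination (-1 : ZMod p) * hcm
  by_cases hall : ∀ e ∈ E, e = m
  · left
    obtain ⟨e, he⟩ := hE
    exact Finset.card_eq_one.mpr ⟨m, Finset.eq_singleton_iff_unique_mem.mpr
      ⟨hall e he ▸ he, hall⟩⟩
  · right
    push Not at hall
    obtain ⟨e, he, hem⟩ := hall
    have hsub : Finset.univ.erase m ⊆ E := by
      intro x hx
      have hxm := Finset.ne_of_mem_erase hx
      have hne : e - m ≠ 0 := sub_ne_zero.mpr hem
      have := hEinv ((x - m) / (e - m)) (div_ne_zero (sub_ne_zero.mpr hxm) hne) e he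
      rwa [div_mul_cancel₀ _ hne, add_sub_cancel] at this
    have := Finset.card_le_card hsub
    rw [Finset.card_erase_of_mem (Finset.mem_univ _), Finset.card_univ, ZMod.card] at this
    omega

end Cfsg.Agent.PSqOne
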