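import Mathlib
import Cfsg.Agent.Lib.Perm.PSqOne.Cases
import Cfsg.Agent.Lib.Perm.PSqOne.SumSet

/-!
# The case of a two-transitive kernel and an affine group on the parts

The orbit of a stabiliser of the kernel in another part is described by a set of residues with
almost uniform `p`-fold sums.
-/

set_option autoImplicit false

open MulAction

namespace Cfsg.Agent.PSqOne

variable {p : ℕ} [Fact p.Prime]

/-- The number of `m`-tuples from `E` with sum `t`. -/
noncomputable def tupleCount (E : Finset (ZMod p)) (m : ℕ) (t : ZMod p) : ℕ :=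
  Nat.card {f : Fin m → E // ∑ i, ((f i : E) : ZMod p) = t}

theorem tupleCount_eq (E : Finset (ZMod p)) (t : ZMod p) : tupleCount E p t = sumCount E t := rfl

theorem tupleCount_zero (E : Finset (ZMod p)) (t : ZMod p) :
    tupleCount E 0 t = if t = 0 then 1 else 0 := by
  classical
  rw [tupleCount, Nat.card_eq_fintype_card, Fintype.card_subtype]
  by_cases ht : t = 0
  · subst ht
    simp
  · rw [if_neg ht, Finset.card_eq_zero, Finset.filter_eq_empty_iff]
    intro f _
    simpa using Ne.symm ht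

theorem tupleCount_succ (E : Finset (ZMod p)) (m : ℕ) (t : ZMod p) :
    tupleCount E (m + 1) t = ∑ e ∈ E, tupleCount E m (t - e) := by
  classical
  unfold tupleCount
  rw [← Finset.sum_coe_sort E, ← Nat.card_sigma]
  refine Nat.card_congr
    { toFun := fun f => ⟨f.1 0, Fin.tail f.1, by
        have h := f.2
        rw [Fin.sum_univ_succ] at h
        rw [eq_sub_iff_add_eq, add_comm]
        exact h⟩
      invFun := fun z => ⟨Fin.cons z.1 z.2.1, by
        rw [Fin.sum_univ_succ]
        simp only [Fin.cons_zero, Fin.cons_succ]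
        rw [z.2.2, add_sub_cancel]⟩
      left_inv := fun f => Subtype.ext (Fin.cons_self_tail f.1)
      right_inv := fun z => by
        obtain ⟨e, f, hf⟩ := z
        exact Sigma.subtype_ext (by simp) (by simp [Fin.tail]) }

variable {G Ω : Type*} [Group G] [MulAction G Ω] [Finite G] [Fintype Ω] [FaithfulSMul G Ω]

namespace BlockSys

variable {S : BlockSys G Ω p} {a : Ω} {P P₀ : Subgroup G}

/-- The case where the kernel stabiliser of `b` is transitive on the other points of the part and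
only kernel elements fix two parts. -/
theorem false_of_kern_transitive (hp2 : p ≠ 2) (hΩ : Fintype.card Ω = p ^ 2 + 1)
    (h2 : IsMultiplyPretransitive G Ω 2) (hS : S.Setup a P P₀) {b : Ω} (hb : b ≠ a)
    (hKt : ∀ v w : Ω, v ∈ S.blk a b → v ≠ b → w ∈ S.blk a b → w ≠ b →
      ∃ k ∈ S.kern a, k • b = b ∧ k • v = w)
    (hIa : ∀ (g : G) (v : Ω), g • a = a → g • b = b → v ≠ a → v ∉ S.blk a b →
      g • v ∈ S.blk a v → g ∈ S.kern a) : False := by
  classical
  have hp : p.Prime := Fact.out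
  have hp3 : 3 ≤ p := by have := hp.two_le; omega
  obtain ⟨c, hc, hca, hcout⟩ := S.exists_asymm hp.two_le hΩ h2 a b hb.symm
  have hcb : c ≠ b := (S.ne_of_mem hb hc).symm
  let K : Subgroup G := S.kern a
  have hKa : ∀ k ∈ K, k • a = a := fun k hk => (S.mem_kern.mp hk).1
  have hKv : ∀ k ∈ K, ∀ v, v ≠ a → k • v ∈ S.blk a v := fun k hk => (S.mem_kern.mp hk).2
  -- the stabiliser of `b` in the kernel is not trivial
  have hXc : (S.blk a b \ {b}).ncard = p - 1 := by
    rw [Set.ncard_sdiff (Set.singleton_subset_iff.mpr (S.mem a b hb.symm)), Set.ncard_singleton,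
      S.ncard a b hb.symm]
  have hne : ∃ k ∈ K, k • b = b ∧ k ≠ 1 := by
    obtain ⟨v, hv, w, hw, hvw⟩ := Set.one_lt_ncard_iff_nontrivial.mp
      (show 1 < (S.blk a b \ {b}).ncard by omega)
    obtain ⟨k, hk, hkb, hkv⟩ := hKt v w hv.1 hv.2 hw.1 hw.2
    exact ⟨k, hk, hkb, fun h => hvw (by rw [← hkv, h, one_smul])⟩
  -- `Y` is one orbit
  let Y : Set Ω := S.blk b a \ {a}
  have hYc : Y.ncard = p - 1 := by
    rw [Set.ncard_sdiff (Set.singleton_subset_iff.mpr (S.mem b a hb)), Set.ncard_singleton,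
      S.ncard b a hb]
  have hstabY : ∀ g : G, g • a = a → g • b = b → ∀ y ∈ Y, g • y ∈ Y := by
    intro g hga hgb y hy
    have := (S.smul_mem g b a y hb).mpr hy.1
    rw [hgb, hga] at this
    exact ⟨this, fun h => hy.2 (smul_left_cancel _ (Eq.trans h hga.symm))⟩
  obtain ⟨s, hsa, hsb⟩ := is_two_pretransitive_iff.mp h2 hb.symm hb
  have htrY : ∀ y ∈ Y, ∃ g : G, g • a = a ∧ g • b = b ∧ g • c = y := by
    intro y hy
    have hmem : ∀ u, u ∈ S.blk b a → u ≠ a → s • u ∈ S.blk a b ∧ s • u ≠ b := by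
      intro u hu hua
      have := (S.smul_mem s b a u hb).mpr hu
      rw [hsa, hsb] at this
      exact ⟨this, fun h => hua (smul_left_cancel s (h.trans hsa.symm))⟩
    obtain ⟨k, hk, hkb, hkc⟩ := hKt (s • c) (s • y) (hmem c hc hca).1 (hmem c hc hca).2
      (hmem y hy.1 hy.2).1 (hmem y hy.1 hy.2).2
    refine ⟨s⁻¹ * k * s, ?_, ?_, ?_⟩
    · rw [mul_smul, mul_smul, hsa, hkb, ← hsa, inv_smul_smul]
    · rw [mul_smul, mul_smul, hsb, hKa k hk, ← hsb, inv_smul_smul]
    · rw [mul_smul, mul_smul, hkc, inv_smul_smul]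
  -- coordinates
  obtain ⟨x, hx, hxb⟩ := hS.trans b c hb hca
  have hx0 : x ∉ P₀ := fun h => hcout (hxb ▸ hKv x (hS.le_kern h) b hb)
  obtain ⟨h₀, hh₀⟩ : ∃ h₀ : P₀, h₀ ≠ 1 := by
    haveI : Nontrivial P₀ := Finite.one_lt_card_iff_nontrivial.mp (hS.card₀ ▸ hp.one_lt)
    exact exists_ne 1
  have hord : orderOf h₀ = p := orderOf_eq_prime (by
    rw [← hS.card₀]; exact pow_card_eq_one') hh₀
  let H : ZMod p → G := fun t => (h₀ : G) ^ t.val
  have hHmem : ∀ t, H t ∈ P₀ := fun t => P₀.pow_mem h₀.2 _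
  have hHP : ∀ t, H t ∈ P := fun t => hS.le₀ (hHmem t)
  have hHadd : ∀ s t, H (s + t) = H s * H t := by
    intro s t
    simp only [H]
    rw [← pow_add, pow_eq_pow_iff_modEq, Subgroup.orderOf_coe, hord, ZMod.val_add]
    exact Nat.mod_modEq _ _
  have hH0 : H 0 = 1 := by simp [H]
  have hHneg : ∀ t, (H t)⁻¹ = H (-t) := fun t =>
    inv_eq_of_mul_eq_one_right (by rw [← hHadd, add_neg_cancel, hH0])
  have hHsurj : ∀ y ∈ P₀, ∃ t, H t = y := by
    intro y hy
    obtain ⟨j, hj⟩ := mem_powers_of_prime_card hS.card₀ (g := h₀) (g' := ⟨y, hy⟩) hh₀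
    refine ⟨(j : ZMod p), ?_⟩
    have hj' : (h₀ : G) ^ j = y := congrArg Subtype.val hj
    simp only [H]
    rw [← hj', pow_eq_pow_iff_modEq, Subgroup.orderOf_coe, hord, ZMod.val_natCast]
    exact Nat.mod_modEq _ _
  have hHinj : Function.Injective H := by
    intro s t he
    simp only [H, pow_eq_pow_iff_modEq, Subgroup.orderOf_coe, hord] at he
    refine ZMod.val_injective p ?_
    unfold Nat.ModEq at he
    rwa [Nat.mod_eq_of_lt (ZMod.val_lt s), Nat.mod_eq_of_lt (ZMod.val_lt t)] at he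
  have hfreeb : ∀ y ∈ P, ∀ z ∈ P, y • b = z • b → y = z := by
    intro y hy z hz he
    exact (inv_mul_eq_one.mp (hS.free _ (P.mul_mem (P.inv_mem hz) hy) b hb
      (by rw [mul_smul, he, inv_smul_smul]))).symm
  let pos : ZMod p → Ω := fun t => (x * H t) • b
  have hpos_inj : Function.Injective pos := fun s t he =>
    hHinj (mul_left_cancel (hfreeb _ (P.mul_mem hx (hHP s)) _ (P.mul_mem hx (hHP t)) he))
  have hpos_part : ∀ t, pos t ∈ S.blk a c := by
    intro t
    show (x * H t) • b ∈ S.blk a c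
    rw [hS.comm x hx _ (hHP t), mul_smul, hxb]
    exact hKv _ (hS.le_kern (hHmem t)) c hca
  have hpos_surj : ∀ u ∈ S.blk a c, ∃ t, pos t = u := by
    intro u hu
    obtain ⟨y, hy, rfl⟩ := hS.trans₀ c u hca hu
    obtain ⟨t, rfl⟩ := hHsurj y hy
    refine ⟨t, ?_⟩
    show (x * H t) • b = H t • c
    rw [hS.comm x hx _ (hHP t), mul_smul, hxb]
  -- the orbit of `c`
  let O : Set Ω := {z | ∃ k ∈ K, k • b = b ∧ k • c = z}
  have hOY : O ⊆ Y := by
    rintro z ⟨k, hk, hkb, rfl⟩
    exact hstabY k (hKa k hk) hkb c ⟨hc, hca⟩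
  have hOpart : O ⊆ S.blk a c := by
    rintro z ⟨k, hk, -, rfl⟩
    exact hKv k hk c hca
  have hOinv : ∀ k ∈ K, k • b = b → ∀ z ∈ O, k • z ∈ O := by
    rintro k hk hkb z ⟨l, hl, hlb, rfl⟩
    exact ⟨k * l, K.mul_mem hk hl, by rw [mul_smul, hlb, hkb], mul_smul k l c⟩
  let E : Finset (ZMod p) := Finset.univ.filter fun t => pos t ∈ O
  have hEmem : ∀ t, t ∈ E ↔ pos t ∈ O := fun t => by simp [E]
  have hE0 : E.Nonempty :=
    ⟨0, (hEmem 0).mpr ⟨1, K.one_mem, one_smul _ b, by
      show (1 : G) • c = (x * H 0) • b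
      rw [one_smul, hH0, mul_one, hxb]⟩⟩
  have hEO : E.card = O.ncard := by
    rw [← Set.ncard_coe_finset E, ← Set.ncard_image_of_injective _ hpos_inj]
    congr 1
    ext u
    constructor
    · rintro ⟨t, ht, rfl⟩; exact (hEmem t).mp ht
    · intro hu
      obtain ⟨t, rfl⟩ := hpos_surj u (hOpart hu)
      exact ⟨t, (hEmem t).mpr hu, rfl⟩
  have hEle : E.card ≤ p - 1 := by
    rw [hEO, ← hYc]
    exact Set.ncard_le_ncard hOY
  -- the walks
  let R : Ω → Ω → Prop := fun u v => ∃ y ∈ P, ∃ k ∈ K, (y * k) • b = u ∧ (y * k) • c = v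
  have hRinv : ∀ k ∈ K, ∀ u v, R u v → R (k • u) (k • v) := by
    rintro k hk u v ⟨y, hy, l, hl, rfl, rfl⟩
    have hk' : y⁻¹ * k * y ∈ K := by
      have := S.kern_conj (inv_smul_eq_iff.mpr (hS.le y hy).symm) hk
      rwa [inv_inv] at this
    refine ⟨y, hy, y⁻¹ * k * y * l, K.mul_mem hk' hl, ?_, ?_⟩ <;>
      · rw [← mul_smul]; congr 1; group
  have hRiff : ∀ y ∈ P, ∀ v, R (y • b) v ↔ ∃ o ∈ O, v = y • o := by
    intro y hy v
    constructor
    · rintro ⟨z, hz, k, hk, he, rfl⟩
      have hfix : (y⁻¹ * z * k) • b = b := by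
        rw [mul_assoc, mul_smul, he, inv_smul_smul]
      have hkb : k • b ≠ a := fun h => hb (smul_left_cancel k (h.trans (hKa k hk).symm))
      have hmem : y⁻¹ * z ∈ P₀ := by
        refine mem_P₀_of_part hS (P.mul_mem (P.inv_mem hy) hz) hkb ?_
        rw [← mul_smul, hfix]
        exact S.symm hb.symm (hKv k hk b hb)
      refine ⟨(y⁻¹ * z * k) • c, ⟨_, K.mul_mem (hS.le_kern hmem) hk, hfix, rfl⟩, ?_⟩
      rw [← mul_smul y]
      congr 1
      group
    · rintro ⟨o, ⟨k, hk, hkb, rfl⟩, rfl⟩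
      exact ⟨y, hy, k, hk, by rw [mul_smul, hkb], mul_smul y k c⟩
  let A : (Ω → ℕ) → Ω → ℕ := fun φ v => ∑ u ∈ Finset.univ.filter (fun u => R u v), φ u
  have hA : ∀ (φ : Ω → ℕ) (z : G), z ∈ P →
      A φ (z • b) = ∑ e ∈ E, φ ((z * (x * H e)⁻¹) • b) := by
    intro φ z hz
    symm
    refine Finset.sum_bij (fun e _ => (z * (x * H e)⁻¹) • b) ?_ ?_ ?_ (fun _ _ => rfl)
    · intro e he
      rw [Finset.mem_filter]
      refine ⟨Finset.mem_univ _,
        (hRiff _ (P.mul_mem hz (P.inv_mem (P.mul_mem hx (hHP e)))) _).mpr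
          ⟨pos e, (hEmem e).mp he, ?_⟩⟩
      show z • b = (z * (x * H e)⁻¹) • (x * H e) • b
      rw [← mul_smul, inv_mul_cancel_right]
    · intro e he e' he' heq
      have h1 := hfreeb _ (P.mul_mem hz (P.inv_mem (P.mul_mem hx (hHP e)))) _
        (P.mul_mem hz (P.inv_mem (P.mul_mem hx (hHP e')))) heq
      exact hHinj (mul_left_cancel (inv_injective (mul_left_cancel h1)))
    · intro u hu
      have hR : R u (z • b) := (Finset.mem_filter.mp hu).2
      have hua : u ≠ a := by
        obtain ⟨y, hy, k, hk, he, -⟩ := hR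
        rw [← he, mul_smul]
        exact hS.smul_ne hy fun h => hb (smul_left_cancel k (h.trans (hKa k hk).symm))
      obtain ⟨y, hy, rfl⟩ := hS.trans b u hb hua
      obtain ⟨o, ho, he⟩ := (hRiff y hy _).mp hR
      obtain ⟨t, rfl⟩ := hpos_surj o (hOpart ho)
      refine ⟨t, (hEmem t).mpr ho, ?_⟩
      have hz' : z = y * (x * H t) := hfreeb z hz _ (P.mul_mem hy (P.mul_mem hx (hHP t))) (by
        rw [he, mul_smul y])
      show (z * (x * H t)⁻¹) • b = y • b
      rw [hz', mul_inv_cancel_right]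
  let φ : ℕ → Ω → ℕ := fun m => A^[m] fun v => if v = b then 1 else 0
  have hφinv : ∀ k ∈ K, k • b = b → ∀ m v, φ m (k • v) = φ m v := by
    intro k hk hkb m
    induction m with
    | zero =>
      intro v
      have : k • v = b ↔ v = b :=
        ⟨fun h => smul_left_cancel k (h.trans hkb.symm), fun h => by rw [h, hkb]⟩
      simp only [φ, Function.iterate_zero, id_eq, this]
    | succ m ih =>
      intro v
      simp only [φ, Function.iterate_succ', Function.comp_apply]
      show ∑ u ∈ Finset.univ.filter (fun u => R u (k • v)), φ m u =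
        ∑ u ∈ Finset.univ.filter (fun u => R u v), φ m u
      symm
      refine Finset.sum_equiv (MulAction.toPerm k) (fun u => ?_) (fun u _ => (ih u).symm)
      simp only [Finset.mem_filter, Finset.mem_univ, true_and, MulAction.toPerm_apply]
      refine ⟨hRinv k hk u v, fun h => ?_⟩
      have := hRinv k⁻¹ (K.inv_mem hk) _ _ h
      rwa [inv_smul_smul, inv_smul_smul] at this
  have hφ : ∀ (m : ℕ) (t : ZMod p), φ m ((x ^ m * H t) • b) = tupleCount E m t := by
    intro m
    induction m with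
    | zero =>
      intro t
      rw [tupleCount_zero]
      have : (x ^ 0 * H t) • b = b ↔ t = 0 := by
        rw [pow_zero, one_mul]
        refine ⟨fun h => hHinj ?_, fun h => by rw [h, hH0, one_smul]⟩
        rw [hH0]
        exact hS.free _ (hHP t) b hb h
      simp only [φ, Function.iterate_zero, id_eq, this]
    | succ m ih =>
      intro t
      simp only [φ, Function.iterate_succ', Function.comp_apply]
      rw [hA _ _ (P.mul_mem (P.pow_mem hx _) (hHP t)), tupleCount_succ]
      refine Finset.sum_congr rfl fun e _ => ?_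
      rw [← ih (t - e)]
      show φ m _ = φ m _
      congr 2
      have hsplit : H t = H (t - e) * H e := by rw [← hHadd, sub_add_cancel]
      rw [hsplit, mul_inv_rev, pow_succ, hS.comm _ (hHP (t - e)) _ (hHP e)]
      have hxc := hS.comm x hx _ (hHP (t - e))
      calc x ^ m * x * (H e * H (t - e)) * ((H e)⁻¹ * x⁻¹)
          = x ^ m * (x * (H e * H (t - e) * (H e)⁻¹)) * x⁻¹ := by group
        _ = x ^ m * (x * H (t - e)) * x⁻¹ := by
            rw [hS.comm _ (hHP e) _ (hHP (t - e)), mul_inv_cancel_right]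
        _ = x ^ m * H (t - e) := by rw [hxc]; group
  obtain ⟨j₀, hj₀⟩ : ∃ j₀, H j₀ = x ^ p := by
    refine hHsurj _ ?_
    haveI : (P₀.subgroupOf P).Normal :=
      ⟨fun n hn g => by
        rw [Subgroup.mem_subgroupOf] at hn ⊢
        simp only [Subgroup.coe_mul, InvMemClass.coe_inv]
        rw [P₀_conj_of_mem hS g.2 hn]; exact hn⟩
    have hidx : (P₀.subgroupOf P).index = p := by
      have h := (P₀.subgroupOf P).card_mul_index
      rw [hS.card, Nat.card_congr (Subgroup.subgroupOfEquivOfLe hS.le₀).toEquiv, hS.card₀, sq] at h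
      exact Nat.eq_of_mul_eq_mul_left hp.pos h
    have h := Subgroup.pow_index_mem (P₀.subgroupOf P) (⟨x, hx⟩ : P)
    rw [hidx, Subgroup.mem_subgroupOf] at h
    simpa using h
  -- the sums are almost uniform
  have hunif : ∀ s t, s ≠ -j₀ → t ≠ -j₀ → sumCount E s = sumCount E t := by
    intro s t hs ht
    rw [← tupleCount_eq, ← tupleCount_eq, ← hφ, ← hφ, ← hj₀, ← hHadd, ← hHadd]
    have hmem : ∀ u, u ≠ -j₀ → H (j₀ + u) • b ∈ S.blk a b ∧ H (j₀ + u) • b ≠ b := by
      intro u hu
      refine ⟨hKv _ (hS.le_kern (hHmem _)) b hb, fun h => hu ?_⟩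
      have h1 : H (j₀ + u) = H 0 := by rw [hH0]; exact hS.free _ (hHP _) b hb h
      exact eq_neg_of_add_eq_zero_right (hHinj h1)
    obtain ⟨k, hk, hkb, hkv⟩ := hKt _ _ (hmem s hs).1 (hmem s hs).2 (hmem t ht).1 (hmem t ht).2
    rw [← hkv, hφinv k hk hkb]
  -- a fixed point of the stabiliser in the part of `c`
  obtain ⟨w, hw, hwfix⟩ : ∃ w ∈ S.blk a c, ∀ k ∈ K, k • b = b → k • w = w := by
    rcases card_of_uniform_sums hp2 E hE0 (by omega) (-j₀) hunif with h | h
    · refine ⟨c, S.mem a c (Ne.symm hca), fun k hk hkb => ?_⟩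
      have hOc : O.ncard = 1 := hEO ▸ h
      obtain ⟨o, ho⟩ := Set.ncard_eq_one.mp hOc
      have e1 : k • c ∈ O := ⟨k, hk, hkb, rfl⟩
      have e2 : c ∈ O := ⟨1, K.one_mem, one_smul _ b, one_smul _ c⟩
      rw [ho, Set.mem_singleton_iff] at e1 e2
      rw [e1, e2]
    · obtain ⟨t, ht⟩ : ∃ t, (Finset.univ \ E) = {t} := by
        rw [← Finset.card_eq_one, Finset.card_sdiff, Finset.inter_univ, Finset.card_univ,
          ZMod.card, h]
        omega
      refine ⟨pos t, hpos_part t, fun k hk hkb => ?_⟩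
      have hta : pos t ≠ a := (S.ne_of_mem (Ne.symm hca) (hpos_part t)).symm
      have hk1 : k • pos t ∈ S.blk a c := by
        rw [← S.eq_of_mem a c _ (Ne.symm hca) (hpos_part t)]
        exact hKv k hk _ hta
      obtain ⟨t', ht'⟩ := hpos_surj _ hk1
      have htE : t ∉ E := by
        have : t ∈ Finset.univ \ E := by rw [ht]; exact Finset.mem_singleton_self t
        exact (Finset.mem_sdiff.mp this).2
      have ht'E : t' ∉ E := by
        intro hE'
        refine htE ((hEmem t).mpr ?_)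
        have := hOinv k⁻¹ (K.inv_mem hk) (by rw [inv_smul_eq_iff, hkb]) _ ((hEmem t').mp hE')
        rwa [ht', inv_smul_smul] at this
      have : t' ∈ Finset.univ \ E := Finset.mem_sdiff.mpr ⟨Finset.mem_univ _, ht'E⟩
      rw [ht, Finset.mem_singleton] at this
      rw [← ht', this]
  have hwa : w ≠ a := (S.ne_of_mem (Ne.symm hca) hw).symm
  have hwb : w ∉ S.blk a b := fun h => hcout (by
    have := S.symm (Ne.symm hca) hw
    rwa [S.eq_of_mem a b w hb.symm h] at this)
  obtain ⟨y, hy, hyw⟩ := hS.trans b w hb hwa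
  have hy0 : y ∉ P₀ := fun h => hwb (hyw ▸ hKv y (hS.le_kern h) b hb)
  have hcol : ∀ v, v ≠ a → ∃ u ∈ S.blk a v, S.Col a b u := by
    intro v hv
    obtain ⟨z, hz, rfl⟩ := hS.trans b v hb hv
    obtain ⟨n, hn⟩ := exists_pow_mul hS hy hy0 hz
    have hya : y ^ n • b ≠ a := hS.smul_ne (P.pow_mem hy n) hb
    refine ⟨y ^ n • b, S.symm hya.symm ?_, hya, fun k hk hkb =>
      pow_fix hS hy (fun l hl hlb => by rw [hyw]; exact hwfix l hl hlb) n k hk hkb⟩
    have hz' : z = y ^ n * ((y ^ n)⁻¹ * z) := (mul_inv_cancel_left _ _).symm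
    rw [hz', hS.comm _ (P.pow_mem hy n) _ (hS.le₀ hn), mul_smul]
    exact hKv _ (hS.le_kern hn) _ hya
  rcases card_of_uniform_sums hp2 E hE0 (by omega) (-j₀) hunif with h | h
  · -- the stabiliser fixes `Y`
    refine false_of_col hΩ h2 hS hb hne fun u hu hua => ⟨hua, fun k hk hkb => ?_⟩
    obtain ⟨g, hga, hgb, hgc⟩ := htrY u ⟨hu, hua⟩
    have hk' : g⁻¹ * k * g ∈ K := by
      have := S.kern_conj (inv_smul_eq_iff.mpr hga.symm) hk
      rwa [inv_inv] at this
    have hfix : (g⁻¹ * k * g) • b = b := by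
      rw [mul_smul, mul_smul, hgb, hkb, ← hgb, inv_smul_smul, hgb]
    have hOc : O.ncard = 1 := hEO ▸ h
    obtain ⟨o, ho⟩ := Set.ncard_eq_one.mp hOc
    have e1 : (g⁻¹ * k * g) • c ∈ O := ⟨_, hk', hfix, rfl⟩
    have e2 : c ∈ O := ⟨1, K.one_mem, one_smul _ b, one_smul _ c⟩
    rw [ho, Set.mem_singleton_iff] at e1 e2
    have e3 : (g⁻¹ * k * g) • c = c := e1.trans e2.symm
    rw [mul_smul, mul_smul, hgc, inv_smul_eq_iff, hgc] at e3
    exact e3
  · -- the stabiliser of two points fixes `p + 1` points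
    have hOY' : O = Y := Set.eq_of_subset_of_ncard_le hOY (by rw [hYc, ← h, hEO])
    have hLK : ∀ g : G, g • a = a → g • b = b → g ∈ K := by
      intro g hga hgb
      refine hIa g c hga hgb hca hcout (hOpart ?_)
      rw [hOY']
      exact hstabY g hga hgb c ⟨hc, hca⟩
    let L : Ω → Ω → Set Ω := fun u v => {z | ∀ g : G, g • u = u → g • v = v → g • z = z}
    have hLab : L a b = insert a {z | S.Col a b z} := by
      ext z
      constructor
      · intro hz
        by_cases hza : z = a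
        · exact Or.inl hza
        · exact Or.inr ⟨hza, fun k hk hkb => hz k (hKa k hk) hkb⟩
      · rintro (rfl | hz) g hga hgb
        · exact hga
        · exact hz.2 g (hLK g hga hgb) hgb
    have hLcard : (L a b).ncard = p + 1 := by
      rw [hLab, Set.ncard_insert_of_notMem (s := {z | S.Col a b z}) (fun hh => (hh : S.Col a b a).1 rfl)]
      congr 1
      refine le_antisymm (ncard_col_le hΩ hS hb hne) ?_
      refine (S.card_parts hΩ a).symm.le.trans ?_
      rw [← Nat.card_coe_set_eq]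
      refine Nat.card_le_card_of_surjective
        (fun z : {z | S.Col a b z} => S.part a z.1 (z.2 : S.Col a b z.1).1) fun T => ?_
      obtain ⟨v, hv, hT⟩ := T.2
      obtain ⟨u, hu, hcu⟩ := hcol v hv
      exact ⟨⟨u, hcu⟩, Subtype.ext ((S.eq_of_mem a v u hv.symm hu).trans hT)⟩
    have h2' : ∀ {u v u' v' : Ω}, u ≠ v → u' ≠ v' → ∃ g : G, g • u = u' ∧ g • v = v' :=
      is_two_pretransitive_iff.mp h2
    have hLsmul : ∀ (g : G) (u v z : Ω), g • z ∈ L (g • u) (g • v) ↔ z ∈ L u v := by
      intro g u v z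
      constructor
      · intro hz l hlu hlv
        have := hz (g * l * g⁻¹) (by rw [mul_smul, mul_smul, inv_smul_smul, hlu])
          (by rw [mul_smul, mul_smul, inv_smul_smul, hlv])
        rwa [mul_smul, mul_smul, inv_smul_smul, smul_left_cancel_iff] at this
      · intro hz l hlu hlv
        have := hz (g⁻¹ * l * g) (by rw [mul_smul, mul_smul, hlu, inv_smul_smul])
          (by rw [mul_smul, mul_smul, hlv, inv_smul_smul])
        rwa [mul_smul, mul_smul, inv_smul_eq_iff] at this
    refine no_line_system hp.two_le hΩ L ?_ ?_ ?_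
    · intro u v huv
      obtain ⟨g, rfl, rfl⟩ := h2' hb.symm huv
      rw [← hLcard, ← Set.ncard_image_of_injective (L a b) (MulAction.injective g)]
      congr 1
      ext z
      constructor
      · intro hz
        exact ⟨g⁻¹ • z, (hLsmul g a b _).mp (by rwa [smul_inv_smul]), smul_inv_smul g z⟩
      · rintro ⟨z, hz, rfl⟩
        exact (hLsmul g a b z).mpr hz
    · exact fun u v _ => ⟨fun g hg _ => hg, fun g _ hg => hg⟩
    · intro u v huv e he f hf hef
      obtain ⟨g, hgu, hgv⟩ := h2' huv hef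
      let T : Ω → Ω → Set G := fun u v => {l | l • u = u ∧ l • v = v}
      have himg : (fun l => g * l * g⁻¹) '' T u v = T e f := by
        ext l
        constructor
        · rintro ⟨l', ⟨h1, h2⟩, rfl⟩
          exact ⟨by rw [← hgu, mul_smul, mul_smul, inv_smul_smul, h1],
            by rw [← hgv, mul_smul, mul_smul, inv_smul_smul, h2]⟩
        · rintro ⟨h1, h2⟩
          refine ⟨g⁻¹ * l * g, ⟨?_, ?_⟩, by group⟩
          · rw [mul_smul, mul_smul, hgu, h1, ← hgu, inv_smul_smul]
          · rw [mul_smul, mul_smul, hgv, h2, ← hgv, inv_smul_smul]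
      have heq : T u v = T e f := by
        refine Set.eq_of_subset_of_ncard_le (fun l hl => ⟨he l hl.1 hl.2, hf l hl.1 hl.2⟩) ?_
        rw [← himg]
        exact Set.ncard_image_le
      ext z
      constructor
      · intro hz l hlu hlv
        have : l ∈ T e f := heq ▸ ⟨hlu, hlv⟩
        exact hz l this.1 this.2
      · intro hz l hle hlf
        have : l ∈ T u v := heq.symm ▸ ⟨hle, hlf⟩
        exact hz l this.1 this.2

end BlockSys

end Cfsg.Agent.PSqOne
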