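import Mathlib
import Cfsg.Agent.Lib.Perm.PSqOne.Walk
import Cfsg.Agent.Lib.Perm.PSqOne.Affine
import Cfsg.Agent.Lib.Perm.PrimeDegree

/-!
# No doubly transitive group of even permutations of odd degree square plus one has parts
-/

set_option autoImplicit false

open MulAction

namespace Cfsg.Agent.PSqOne

variable {G Ω : Type*} [Group G] [MulAction G Ω] [Finite G] [Fintype Ω] [FaithfulSMul G Ω]
variable {p : ℕ} [Fact p.Prime]

namespace BlockSys

variable {S : BlockSys G Ω p} {a : Ω} {P P₀ : Subgroup G}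

/-- The kernel acting on one part is two-transitive, or its elements of order `p` lie in `P₀`. -/
theorem kern_dichotomy (hS : S.Setup a P P₀) {b : Ω} (hb : b ≠ a) :
    (∀ v w : Ω, v ∈ S.blk a b → v ≠ b → w ∈ S.blk a b → w ≠ b →
      ∃ k ∈ S.kern a, k • b = b ∧ k • v = w) ∨
    (∀ g : G, g • a = a → ∀ h ∈ P₀, g * h * g⁻¹ ∈ P₀) := by
  classical
  have hp : p.Prime := Fact.out
  let K : Subgroup G := S.kern a
  have hmaps : ∀ k ∈ K, ∀ v ∈ S.blk a b, k • v ∈ S.blk a b := by
    intro k hk v hv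
    rw [← S.eq_of_mem a b v hb.symm hv]
    exact (S.mem_kern.mp hk).2 v (S.ne_of_mem hb.symm hv).symm
  letI : MulAction K (S.blk a b) :=
    { smul := fun k v => ⟨(k : G) • v.1, hmaps k k.2 v v.2⟩
      one_smul := fun v => Subtype.ext (one_smul G v.1)
      mul_smul := fun k l v => Subtype.ext (mul_smul (k : G) (l : G) v.1) }
  let χ : K →* Equiv.Perm (S.blk a b) := MulAction.toPermHom K (S.blk a b)
  have hχinj : Function.Injective χ := by
    rw [injective_iff_map_eq_one]
    intro k hk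
    refine Subtype.ext (S.kern_faithful hS hb k.2 fun v hv => ?_)
    exact congrArg Subtype.val
      (congrArg (fun f : Equiv.Perm (S.blk a b) => f ⟨v, hv⟩) hk : k • (⟨v, hv⟩ : S.blk a b) = ⟨v, hv⟩)
  haveI : IsPretransitive χ.range (S.blk a b) := ⟨fun v w => by
    have hva : (v : Ω) ≠ a := (S.ne_of_mem hb.symm v.2).symm
    obtain ⟨y, hy, he⟩ := hS.trans₀ v.1 w.1 hva (by rw [S.eq_of_mem a b v.1 hb.symm v.2]; exact w.2)
    exact ⟨⟨χ ⟨y, hS.le_kern hy⟩, _, rfl⟩, Subtype.ext he⟩⟩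
  haveI : Fintype (S.blk a b) := Fintype.ofFinite _
  have hα : Fintype.card (S.blk a b) = p := by
    rw [← Nat.card_eq_fintype_card, Nat.card_coe_set_eq, S.ncard a b hb.symm]
  rcases Cfsg.Agent.PrimeDegree.two_transitive_or_affine hα χ.range with h2 | ⟨e, he⟩
  · left
    intro v w hv hvb hw hwb
    obtain ⟨⟨g, k, rfl⟩, hgb, hgv⟩ := is_two_pretransitive_iff.mp h2
      (show (⟨b, S.mem a b hb.symm⟩ : S.blk a b) ≠ ⟨v, hv⟩ from
        fun h => hvb (congrArg Subtype.val h).symm)
      (show (⟨b, S.mem a b hb.symm⟩ : S.blk a b) ≠ ⟨w, hw⟩ from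
        fun h => hwb (congrArg Subtype.val h).symm)
    exact ⟨k, k.2, congrArg Subtype.val hgb, congrArg Subtype.val hgv⟩
  · right
    intro g hg h hh
    by_cases hh1 : h = 1
    · subst hh1; simp [P₀.one_mem]
    have hhp : (h : G) ^ p = 1 := by
      have : (⟨h, hh⟩ : P₀) ^ p = 1 := by rw [← hS.card₀]; exact pow_card_eq_one'
      exact congrArg Subtype.val this
    have hk : g * h * g⁻¹ ∈ K := S.kern_conj hg (hS.le_kern hh)
    have hmem : χ ⟨g * h * g⁻¹, hk⟩ ∈ Subgroup.zpowers (χ ⟨h, hS.le_kern hh⟩) := by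
      refine mem_zpowers_of_affine χ.range e he ⟨_, rfl⟩ ⟨_, rfl⟩ ?_ ?_ ?_
      · rw [← map_pow, ← map_one χ]
        congr 1
        refine Subtype.ext ?_
        show (g * h * g⁻¹) ^ p = 1
        rw [conj_pow, hhp, mul_one, mul_inv_cancel]
      · rw [← map_pow, ← map_one χ]
        congr 1
        exact Subtype.ext hhp
      · rw [← map_one χ]
        exact fun h' => hh1 (congrArg Subtype.val (hχinj h'))
    obtain ⟨n, hn⟩ := hmem
    have hn' : χ (⟨h, hS.le_kern hh⟩ ^ n) = χ ⟨g * h * g⁻¹, hk⟩ := by rw [map_zpow]; exact hn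
    have := congrArg Subtype.val (hχinj hn')
    rw [← show h ^ n = g * h * g⁻¹ from this]
    exact P₀.zpow_mem hh n

/-- The main contradiction. -/
theorem false_of_blockSys (S : BlockSys G Ω p) (hp2 : p ≠ 2)
    (hΩ : Fintype.card Ω = p ^ 2 + 1) (h2 : IsMultiplyPretransitive G Ω 2) [DecidableEq Ω]
    (heven : ∀ g : G, Equiv.Perm.sign (MulAction.toPerm g : Equiv.Perm Ω) = 1) : False := by
  classical
  have hp : p.Prime := Fact.out
  obtain ⟨a, b, hab⟩ := Fintype.exists_pair_of_one_lt_card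
    (show 1 < Fintype.card Ω by rw [hΩ]; have := pow_pos hp.pos 2; omega)
  have hb : b ≠ a := hab.symm
  obtain ⟨P, P₀, hS⟩ := S.exists_setup hΩ h2 a
  let φ := S.blockHom a
  haveI : IsPretransitive φ.range (S.Parts a) := ⟨fun T T' => by
    obtain ⟨v, hv, hT⟩ := T.2
    obtain ⟨w, hw, hT'⟩ := T'.2
    obtain ⟨y, hy, he⟩ := hS.trans v w hv hw
    refine ⟨⟨φ ⟨y, hS.le y hy⟩, _, rfl⟩, ?_⟩
    show φ ⟨y, hS.le y hy⟩ T = T'
    rw [show T = S.part a v hv from Subtype.ext hT.symm,
      show T' = S.part a w hw from Subtype.ext hT'.symm,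
      S.blockHom_part hv ⟨y, hS.le y hy⟩ (hS.smul_ne hy hv)]
    exact Subtype.ext (congrArg (S.blk a) he)⟩
  haveI : Fintype (S.Parts a) := Fintype.ofFinite _
  have hα : Fintype.card (S.Parts a) = p := by
    rw [← Nat.card_eq_fintype_card, S.card_parts hΩ a]
  have hstab : ∀ g : G, g • a = a → ∀ v, v ≠ a → g • v ≠ a := fun g hg v hv h =>
    hv (smul_left_cancel _ (h.trans hg.symm))
  rcases Cfsg.Agent.PrimeDegree.two_transitive_or_affine hα φ.range with h2I | ⟨e, he⟩
  · refine false_of_parts_transitive hp2 hΩ h2 heven hS hb fun v w hv hvb hw hwb => ?_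
    obtain ⟨⟨f, g, rfl⟩, hgb, hgv⟩ := is_two_pretransitive_iff.mp h2I
      (show S.part a b hb ≠ S.part a v hv from
        fun h => hvb ((S.part_eq_iff hv hb).mp h.symm))
      (show S.part a b hb ≠ S.part a w hw from
        fun h => hwb ((S.part_eq_iff hw hb).mp h.symm))
    have hgb' : φ g (S.part a b hb) = S.part a b hb := hgb
    have hgv' : φ g (S.part a v hv) = S.part a w hw := hgv
    rw [S.blockHom_part hb g (hstab g g.2 b hb), S.part_eq_iff] at hgb'
    rw [S.blockHom_part hv g (hstab g g.2 v hv), S.part_eq_iff] at hgv'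
    obtain ⟨y, hy, hyb⟩ := hS.trans₀ b ((g : G) • b) hb hgb'
    have hya : y • a = a := hS.le y (hS.le₀ hy)
    refine ⟨y⁻¹ * (g : G), ?_, ?_, ?_⟩
    · rw [mul_smul, show (g : G) • a = a from g.2, inv_smul_eq_iff, hya]
    · rw [mul_smul, ← hyb, inv_smul_smul]
    · have hgva := hstab g g.2 v hv
      have h1 := (S.mem_kern.mp ((S.kern a).inv_mem (hS.le_kern hy))).2 _ hgva
      rw [S.eq_of_mem a w _ hw.symm hgv'] at h1
      rwa [mul_smul]
  · rcases kern_dichotomy hS hb with hK | hP₀n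
    · refine false_of_kern_transitive hp2 hΩ h2 hS hb hK fun g v hga hgb hv hvb hgv => ?_
      have h1 : φ ⟨g, hga⟩ = 1 := by
        refine eq_one_of_affine (φ ⟨g, hga⟩) e (he _ ⟨_, rfl⟩)
          (x := S.part a b hb) (y := S.part a v hv)
          (fun h => hvb ((S.part_eq_iff hv hb).mp h.symm)) ?_ ?_
        · rw [S.blockHom_part hb ⟨g, hga⟩ (hstab g hga b hb)]
          exact Subtype.ext (congrArg (S.blk a) hgb)
        · rw [S.blockHom_part hv ⟨g, hga⟩ (hstab g hga v hv), S.part_eq_iff]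
          exact hgv
      exact ⟨⟨g, hga⟩, h1, rfl⟩
    · refine false_of_translations hp2 hΩ h2 heven hS hb hP₀n fun g hg y hy => ?_
      obtain ⟨c, hc, hca, hcout⟩ := S.exists_asymm hp.two_le hΩ h2 a b hab
      obtain ⟨x, hx, hxb⟩ := hS.trans b c hb hca
      have hx1 : φ ⟨x, hS.le x hx⟩ ≠ 1 := by
        intro h
        have hxK : x ∈ S.kern a := ⟨⟨x, hS.le x hx⟩, h, rfl⟩
        exact hcout (hxb ▸ (S.mem_kern.mp hxK).2 b hb)
      have hpow : ∀ z ∈ P, (z : G) ^ p ∈ S.kern a := by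
        intro z hz
        by_cases hz0 : z ∈ P₀
        · exact (S.kern a).pow_mem (hS.le_kern hz0) p
        haveI : (P₀.subgroupOf P).Normal :=
          ⟨fun n hn g => by
            rw [Subgroup.mem_subgroupOf] at hn ⊢
            simp only [Subgroup.coe_mul, InvMemClass.coe_inv]
            rw [P₀_conj_of_mem hS g.2 hn]; exact hn⟩
        have hidx : (P₀.subgroupOf P).index = p := by
          have h := (P₀.subgroupOf P).card_mul_index
          rw [hS.card, Nat.card_congr (Subgroup.subgroupOfEquivOfLe hS.le₀).toEquiv, hS.card₀,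
            sq] at h
          exact Nat.eq_of_mul_eq_mul_left hp.pos h
        have h := Subgroup.pow_index_mem (P₀.subgroupOf P) (⟨z, hz⟩ : P)
        rw [hidx, Subgroup.mem_subgroupOf] at h
        exact hS.le_kern (by simpa using h)
      have hφpow : ∀ (z : stabilizer G a), (z : G) ^ p ∈ S.kern a → φ z ^ p = 1 := by
        intro z hz
        obtain ⟨w, hw, he⟩ := hz
        have : w = z ^ p := Subtype.ext (he.trans (by simp))
        rw [← map_pow, ← this]
        exact hw
      have hgy : g * y * g⁻¹ ∈ stabilizer G a :=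
        (stabilizer G a).mul_mem ((stabilizer G a).mul_mem hg (hS.le y hy))
          ((stabilizer G a).inv_mem hg)
      have hz : φ ⟨g * y * g⁻¹, hgy⟩ ∈ Subgroup.zpowers (φ ⟨x, hS.le x hx⟩) := by
        refine mem_zpowers_of_affine φ.range e he ⟨_, rfl⟩ ⟨_, rfl⟩ (hφpow _ ?_)
          (hφpow _ (hpow x hx)) hx1
        show (g * y * g⁻¹) ^ p ∈ S.kern a
        rw [conj_pow]
        exact S.kern_conj hg (hpow y hy)
      obtain ⟨n, hn⟩ := hz
      refine ⟨x ^ n, P.zpow_mem hx n, ?_⟩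
      refine ⟨(⟨x, hS.le x hx⟩ ^ n)⁻¹ * ⟨g * y * g⁻¹, hgy⟩, ?_, by simp⟩
      show φ _ = 1
      rw [map_mul, map_inv, map_zpow]
      exact inv_mul_eq_one.mpr hn

end BlockSys

end Cfsg.Agent.PSqOne
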